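import Cfsg.Agent.Lib.Recog.FiTypes.Type23
import Cfsg.Agent.Lib.Recog.FiFour.Aut.Points

set_option autoImplicit false
set_option maxRecDepth 20000
set_option linter.style.haveILetI false

/-!
The transpositions of the presented Fi24: one class of 3-transpositions, the centraliser of one of them, and the
commuting ones (owner: helper21).
-/

namespace CfsgLib.Recog.FiTypes

open Cfsg CfsgLib.Recog.BitPerm CfsgLib.Recog.FiFour CfsgLib.Recog.SporBound
open CfsgLib.ThreeTrans.CosetIndex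
open CfsgLib.Recog.FiFour.Aut (stab_iff comm_l_iff comm_conj_iff dOne one_pt l_dOne iota_zz l_mem)

attribute [local instance] FiThree.finite_fi23' finite_fi24

/-- The transpositions of Fi24. -/
def D24 : Set Spor.Fi24 := conjugatesOf (gg 11)

/-- The transposition commuting with the last letter attached to a transposition of Fi23. -/
noncomputable def up (t : Spor.Fi23) : Spor.Fi24 := iota t * gg 11

theorem up_inj : Function.Injective up := fun _ _ h => iota_injective (mul_right_cancel h)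

theorem l_comm_iota (u : Spor.Fi23) : Commute (gg 11) (iota u) := (l_comm_h (iota_mem u)).symm

theorem up_conj (a b : Spor.Fi23) : up a * up b * (up a)⁻¹ = up (a * b * a⁻¹) := by
  have c1 : Commute (gg 11) (iota b * gg 11) := (l_comm_iota b).mul_right (Commute.refl _)
  calc iota a * gg 11 * (iota b * gg 11) * (iota a * gg 11)⁻¹
      = iota a * (gg 11 * (iota b * gg 11) * (gg 11)⁻¹) * (iota a)⁻¹ := by group
    _ = iota a * (iota b * gg 11) * (iota a)⁻¹ := by rw [c1.eq, mul_inv_cancel_right]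
    _ = iota a * iota b * (gg 11 * (iota a⁻¹)) := by rw [map_inv]; group
    _ = _ := by rw [(l_comm_iota a⁻¹).eq, up, map_mul, map_mul]; group

theorem iota_conj (a b : Spor.Fi23) : iota a * up b * (iota a)⁻¹ = up (a * b * a⁻¹) := by
  calc iota a * (iota b * gg 11) * (iota a)⁻¹ = iota a * iota b * (gg 11 * iota a⁻¹) := by rw [map_inv]; group
    _ = _ := by rw [(l_comm_iota a⁻¹).eq, up, map_mul, map_mul]; group

theorem up_comm (t : Spor.Fi23) : Commute (gg 11) (up t) := (l_comm_iota t).mul_right (Commute.refl _)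

theorem up_zz : up FiThree.zz = dOne := by
  rw [up, iota_zz, mul_assoc, ← l_dOne, ← mul_assoc, gg_sq, one_mul]

theorem up_eq_conj (u : Spor.Fi23) :
    up (u * FiThree.zz * u⁻¹) = (iota u * g1) * gg 11 * (iota u * g1)⁻¹ := by
  rw [← iota_conj, up_zz, dOne]; group

theorem k_pt : act (gg 10) 0 = 1 := by rw [← word_singleton]; exact act_maps k_point

theorem l_pt : act (gg 11) 1 = 3 := by
  have h := l_moves
  simp only [Bool.and_eq_true] at h
  rw [← word_singleton]; exact act_maps h.1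

theorem kl_braid : gg 11 * gg 10 * gg 11 = gg 10 * gg 11 * gg 10 := by
  have h : ((relWords Spor.Fi24.edges Spor.Fi24.extra gens24).contains [11, 10, 11, 10, 11, 10] ||
      (relWords Spor.Fi24.edges Spor.Fi24.extra gens24).contains [10, 11, 10, 11, 10, 11]) = true := by decide +kernel
  rcases Bool.or_eq_true_iff.1 h with h | h
  · exact braid_of_rel h
  · exact (braid_of_rel h).symm

theorem k_eq_conj : gg 10 = (gg 11 * gg 10) * gg 11 * (gg 11 * gg 10)⁻¹ := by
  rw [kl_braid]; group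

theorem k_mem : gg 10 ∈ D24 := isConj_iff.2 ⟨gg 11 * gg 10, k_eq_conj.symm⟩

theorem lk_pt : act (gg 11 * gg 10) 0 = 3 := by rw [map_mul, Equiv.Perm.mul_apply, k_pt, l_pt]

theorem comm_k_iff {g : Spor.Fi24} : Commute g (gg 10) ↔ act g 3 = 3 := by
  rw [k_eq_conj, ← lk_pt]
  exact comm_conj_iff

theorem not_commute_lk : ¬ Commute (gg 11) (gg 10) := by
  intro h
  have h2 := congrArg (fun g => act g 0) h.eq
  simp only [map_mul, Equiv.Perm.mul_apply, top_fix l_mem, k_pt, l_pt] at h2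
  exact absurd h2 (by decide)

theorem l_ne_one : gg 11 ≠ 1 := fun e => not_commute_lk (e ▸ Commute.one_left _)

/-- The three kinds of conjugates of the last letter. -/
theorem conj_cases (m : Spor.Fi24) : m * gg 11 * m⁻¹ = gg 11 ∨
    (∃ t ∈ FiThree.trans, m * gg 11 * m⁻¹ = up t) ∨
    ∃ u, m * gg 11 * m⁻¹ = iota u * (gg 10 * gg 11 * gg 10) * (iota u)⁻¹ := by
  have key : ∀ x : Spor.Fi24, x⁻¹ * m ∈ hTop → m * gg 11 * m⁻¹ = x * gg 11 * x⁻¹ := fun x hx => by
    calc m * gg 11 * m⁻¹ = x * ((x⁻¹ * m) * gg 11) * m⁻¹ := by group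
      _ = x * (gg 11 * (x⁻¹ * m)) * m⁻¹ := by rw [l_comm_h hx]
      _ = _ := by group
  rcases inU_all m with h | ⟨u, h⟩ | ⟨u, h⟩
  · exact Or.inl (by rw [l_comm_h h, mul_inv_cancel_right])
  · exact Or.inr (Or.inl ⟨u * FiThree.zz * u⁻¹, FiThree.mem_trans.2 ⟨u, rfl⟩, by rw [key _ h, up_eq_conj]⟩)
  · refine Or.inr (Or.inr ⟨u, ?_⟩)
    rw [key _ h, mul_inv_rev, inv_eq_of_mul_eq_one_right (gg_sq 10)]
    group

theorem pair24 (m : Spor.Fi24) :
    (gg 11 * (m * gg 11 * m⁻¹)) ^ 2 = 1 ∨ (gg 11 * (m * gg 11 * m⁻¹)) ^ 3 = 1 := by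
  rcases conj_cases m with e | ⟨t, ht, e⟩ | ⟨u, e⟩
  · exact Or.inl (by rw [e, gg_sq, one_pow])
  · refine Or.inl ?_
    have hc : gg 11 * up t = iota t := by
      rw [(up_comm t).eq, up, mul_assoc, gg_sq, mul_one]
    rw [e, hc, ← map_pow, pow_two]
    obtain ⟨g, rfl⟩ := FiThree.mem_trans.1 ht
    rw [show g * FiThree.zz * g⁻¹ * (g * FiThree.zz * g⁻¹) = g * (FiThree.zz * FiThree.zz) * g⁻¹ by group,
      FiThree.zz_sq, mul_one, mul_inv_cancel, map_one]
  · refine Or.inr ?_
    have e2 : gg 11 * (gg 10 * gg 11 * gg 10) = gg 10 * gg 11 := by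
      rw [← kl_braid]
      calc gg 11 * (gg 11 * gg 10 * gg 11) = gg 11 * gg 11 * gg 10 * gg 11 := by group
        _ = _ := by rw [gg_sq, one_mul]
    have e3 : (gg 10 * gg 11) ^ 3 = 1 := by
      calc (gg 10 * gg 11) ^ 3 = (gg 10 * gg 11 * gg 10) * (gg 11 * gg 10 * gg 11) := by
            rw [pow_succ, pow_two]; group
        _ = (gg 10 * gg 11) * (gg 10 * gg 10) * gg 11 * gg 10 := by rw [kl_braid]; group
        _ = gg 10 * (gg 11 * gg 11) * gg 10 := by rw [gg_sq]; group
        _ = 1 := by rw [gg_sq, mul_one, gg_sq]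
    rw [e, show gg 11 * (iota u * (gg 10 * gg 11 * gg 10) * (iota u)⁻¹) =
      iota u * (gg 11 * (gg 10 * gg 11 * gg 10)) * (iota u)⁻¹ by
        rw [← mul_assoc, ← mul_assoc, (l_comm_iota u).eq]
        group, e2, conj_pow, e3, mul_one, mul_inv_cancel]

theorem gg_mem_D24 {x : ℕ} (hx : x < 12) : gg x ∈ D24 := by
  rcases Nat.lt_or_ge x 10 with h | h
  · obtain ⟨g, e⟩ := Aut.conj_l h
    exact isConj_iff.2 ⟨g, e.symm⟩
  · rcases (show x = 10 ∨ x = 11 by omega) with rfl | rfl
    · exact k_mem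
    · exact mem_conjugatesOf_self

theorem class24 : IsThreeTranspositionClass D24 := by
  refine ⟨⟨fun d hd => ?_, fun d hd f hf => ?_⟩, ⟨gg 11, mem_conjugatesOf_self, rfl⟩, ?_⟩
  · obtain ⟨g, rfl⟩ := isConj_iff.1 hd
    refine orderOf_eq_prime ?_ fun e => l_ne_one (conj_eq_one_iff.1 e)
    rw [conj_pow, pow_two, gg_sq, mul_one, mul_inv_cancel]
  · obtain ⟨g, rfl⟩ := isConj_iff.1 hd
    obtain ⟨k, rfl⟩ := isConj_iff.1 hf
    have e : g * gg 11 * g⁻¹ * (k * gg 11 * k⁻¹) =
        g * (gg 11 * ((g⁻¹ * k) * gg 11 * (g⁻¹ * k)⁻¹)) * g⁻¹ := by group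
    rcases pair24 (g⁻¹ * k) with h | h
    · exact Or.inl (by rw [e, conj_pow, h, mul_one, mul_inv_cancel])
    · exact Or.inr (by rw [e, conj_pow, h, mul_one, mul_inv_cancel])
  · rw [eq_top_iff, ← SporBound.closure_gen nodes24, Subgroup.closure_le]
    rintro _ ⟨x, rfl⟩
    by_cases hx : x < 12
    · exact Subgroup.subset_closure (gg_mem_D24 hx)
    · show gg x ∈ _
      have e : gg x = 1 := by
        show gen _ _ gens24 x = 1
        rw [gen, List.getElem?_eq_none (show gens24.length ≤ x from Nat.le_of_not_lt hx)]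
        rfl
      rw [e]; exact one_mem _

theorem centralizer_l : Subgroup.centralizer ({gg 11} : Set Spor.Fi24) = hTop := by
  ext g
  rw [Subgroup.mem_centralizer_singleton_iff, ← stab_iff, ← comm_l_iff]

theorem hTop_maximal {C : Subgroup Spor.Fi24} (hC : hTop ≤ C) : C = hTop ∨ C = ⊤ := by
  by_cases hle : C ≤ hTop
  · exact Or.inl (le_antisymm hle hC)
  obtain ⟨g, hg, hgn⟩ := SetLike.not_le_iff_exists.1 hle
  have hi : ∀ u, iota u ∈ C := fun u => hC (iota_mem u)
  have of_double : ∀ (y x : Spor.Fi24) (u : Spor.Fi23), x ∈ C → (iota u * y)⁻¹ * x ∈ hTop → y ∈ C := by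
    intro y x u hx h
    rw [show y = (iota u)⁻¹ * x * ((iota u * y)⁻¹ * x)⁻¹ by group]
    exact mul_mem (mul_mem (inv_mem (hi u)) hx) (inv_mem (hC h))
  have hk_of : g1 ∈ C → gg 10 ∈ C := fun h1 => by
    obtain ⟨v, u, h⟩ := a_witness
    exact of_double _ _ u (mul_mem (mul_mem h1 (hi v)) h1) h
  have h1_of : gg 10 ∈ C → g1 ∈ C := fun hk => by
    obtain ⟨v, u, h⟩ := b_witness
    rw [show g1 = (gg 10 * iota v)⁻¹ * ((iota u * gg 10) * ((iota u * gg 10)⁻¹ * (gg 10 * iota v * g1))) by group]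
    exact mul_mem (inv_mem (mul_mem hk (hi v))) (mul_mem (mul_mem (hi u) hk) (hC h))
  obtain ⟨h1, hk⟩ : g1 ∈ C ∧ gg 10 ∈ C := by
    rcases inU_all g with h | ⟨u, h⟩ | ⟨u, h⟩
    · exact absurd h hgn
    · have := of_double _ _ u hg h; exact ⟨this, hk_of this⟩
    · have := of_double _ _ u hg h; exact ⟨h1_of this, this⟩
  refine Or.inr (eq_top_iff.2 fun x _ => ?_)
  rcases inU_all x with h | ⟨u, h⟩ | ⟨u, h⟩
  · exact hC h
  · rw [show x = (iota u * g1) * ((iota u * g1)⁻¹ * x) by group]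
    exact mul_mem (mul_mem (hi u) h1) (hC h)
  · rw [show x = (iota u * gg 10) * ((iota u * gg 10)⁻¹ * x) by group]
    exact mul_mem (mul_mem (hi u) hk) (hC h)

theorem primitive24 : IsPrimitiveUnderConj D24 := by
  refine primitive_of_maximal (fun M hM => ?_) ⟨gg 10, fun e => not_commute_lk ?_⟩
  · rw [centralizer_l] at hM ⊢
    exact hTop_maximal hM
  · exact (mul_inv_eq_iff_eq_mul.1 e).symm

theorem iota_central {u : Spor.Fi23} (h : ∀ x < 10, Commute (iota (FiThree.gg x)) (iota u)) : u = 1 :=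
  FiThree.center_eq_one fun x hx => iota_injective (by rw [map_mul, map_mul]; exact h x hx)

theorem center24 : Subgroup.center Spor.Fi24 = ⊥ := by
  rw [Subgroup.eq_bot_iff_forall]
  intro n hn
  rw [Subgroup.mem_center_iff] at hn
  obtain ⟨u, rfl | rfl⟩ := hTop_elem (stab_iff.1 (comm_l_iff.1 (hn (gg 11)).symm))
  · rw [iota_central fun x _ => hn _, map_one]
  · exfalso
    have e : u = 1 := iota_central fun x _ => by
      have c : Commute (iota (FiThree.gg x)) (iota u * gg 11) := hn _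
      have := c.mul_right (l_comm_iota (FiThree.gg x)).symm
      rwa [mul_assoc, gg_sq, mul_one] at this
    rw [e, map_one, one_mul] at hn
    exact not_commute_lk (hn (gg 10)).symm

/-- The members commuting with the last letter. -/
theorem nb24 : nbS D24 (gg 11) = up '' FiThree.trans := by
  ext d
  constructor
  · rintro ⟨hd, hne, hc⟩
    obtain ⟨m, rfl⟩ := isConj_iff.1 hd
    rcases conj_cases m with e | ⟨t, ht, e⟩ | ⟨u, e⟩
    · exact absurd e hne
    · exact ⟨t, ht, e.symm⟩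
    · exfalso
      rw [e] at hc
      have hc' : Commute (gg 11) (gg 10 * gg 11 * gg 10) := by
        have := hc.map (MulAut.conj (iota u)⁻¹).toMonoidHom
        simp only [MulEquiv.coe_toMonoidHom, MulAut.conj_apply, inv_inv] at this
        rw [show (iota u)⁻¹ * (iota u * (gg 10 * gg 11 * gg 10) * (iota u)⁻¹) * iota u = gg 10 * gg 11 * gg 10 by group,
          show (iota u)⁻¹ * gg 11 * iota u = gg 11 by rw [mul_assoc, (l_comm_iota u).eq, inv_mul_cancel_left]] at this
        exact this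
      have h0 := comm_l_iff.1 hc'.eq.symm
      rw [map_mul, map_mul, Equiv.Perm.mul_apply, Equiv.Perm.mul_apply, k_pt, l_pt] at h0
      have h3 : act (gg 10) 3 = act (gg 10) 1 := by
        rw [h0, ← k_pt, ← Equiv.Perm.mul_apply, ← map_mul, gg_sq, map_one]; rfl
      exact absurd ((act (gg 10)).injective h3) (by decide)
  · rintro ⟨t, ht, rfl⟩
    refine ⟨?_, fun e => ?_, up_comm t⟩
    · obtain ⟨g, rfl⟩ := FiThree.mem_trans.1 ht
      exact isConj_iff.2 ⟨_, (up_eq_conj g).symm⟩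
    · have h1 : t = 1 := iota_injective (by rw [map_one]; exact mul_eq_right.1 e)
      have := FiThree.trans_class.1.1 t ht
      rw [h1, orderOf_one] at this
      omega

theorem gg_mem_trans23 {x : ℕ} (hx : x < 10) : FiThree.gg x ∈ FiThree.trans :=
  FiThree.mem_trans.2 (FiThree.gg_conj hx)

theorem closure_nb24 : Subgroup.closure (nbS D24 (gg 11)) = hTop := by
  refine le_antisymm ((Subgroup.closure_le _).2 ?_) ?_
  · rw [nb24]
    rintro _ ⟨t, -, rfl⟩
    exact mul_mem (iota_mem t) l_mem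
  · have hlow : ∀ x < 10, gg x ∈ Subgroup.closure (nbS D24 (gg 11)) := fun x hx => by
      refine Subgroup.subset_closure ?_
      rw [nb24]
      exact ⟨_, gg_mem_trans23 hx, by rw [up, iota_gg hx, mul_assoc, gg_sq, mul_one]⟩
    rw [hTop, letterSub, Subgroup.closure_le]
    rintro _ ⟨x, hx, rfl⟩
    by_cases h : x = 11
    · subst h
      have h7 : word sevenW ∈ Subgroup.closure (nbS D24 (gg 11)) := list_prod_mem fun y hy => by
        obtain ⟨z, hz, rfl⟩ := List.mem_map.1 hy
        exact hlow z ((show ∀ z ∈ sevenW, z < 10 by decide +kernel) z hz)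
      rw [seven_eq] at h7
      exact h7
    · exact hlow x ((show ∀ y ∈ FiFour.hLetters, y ≠ 11 → y < 10 by decide) x hx h)

/-- Fi23 onto the centraliser modulo its centre. -/
noncomputable def toCQ : Spor.Fi23 →* CQ hTop :=
  (QuotientGroup.mk' _).comp (iota.codRestrict hTop iota_mem)

theorem l_central : (⟨gg 11, l_mem⟩ : hTop) ∈ Subgroup.center hTop :=
  Subgroup.mem_center_iff.2 fun g => Subtype.ext (l_comm_h g.2)

theorem toCQ_bijective : Function.Bijective toCQ := by
  refine ⟨(MonoidHom.ker_eq_bot_iff _).1 ((Subgroup.eq_bot_iff_forall _).2 fun u hu => ?_), fun q => ?_⟩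
  · have hc := (QuotientGroup.eq_one_iff _).1 (MonoidHom.mem_ker.1 hu)
    exact iota_central fun x _ => congrArg Subtype.val
      (Subgroup.mem_center_iff.1 hc ⟨iota (FiThree.gg x), iota_mem _⟩)
  · obtain ⟨⟨h, hh⟩, rfl⟩ := QuotientGroup.mk'_surjective _ q
    obtain ⟨u, e | e⟩ := hTop_elem hh
    · exact ⟨u, congrArg (QuotientGroup.mk' _) (Subtype.ext e.symm)⟩
    · refine ⟨u, QuotientGroup.eq.2 ?_⟩
      convert l_central using 1
      refine Subtype.ext ?_
      show (iota u)⁻¹ * h = gg 11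
      rw [e, inv_mul_cancel_left]

theorem toCQ_up (t : Spor.Fi23) :
    toCQ t = QuotientGroup.mk' _ (⟨up t, mul_mem (iota_mem t) l_mem⟩ : hTop) := by
  refine QuotientGroup.eq.2 ?_
  convert l_central using 1
  refine Subtype.ext ?_
  show (iota t)⁻¹ * (iota t * gg 11) = gg 11
  rw [inv_mul_cancel_left]

theorem section24 : IsOfTypeM23 (CQ (Subgroup.closure (nbS D24 (gg 11))))
    ((QuotientGroup.mk : ↥(Subgroup.closure (nbS D24 (gg 11))) → _) ''
      {x : ↥(Subgroup.closure (nbS D24 (gg 11))) | (x : Spor.Fi24) ∈ nbS D24 (gg 11)}) := by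
  set e := (MulEquiv.subgroupCongr closure_nb24).symm with he
  have h := type23_congr (cqCongr e) (type23_congr (MulEquiv.ofBijective toCQ toCQ_bijective) type23)
  convert h using 1
  ext q
  constructor
  · rintro ⟨x, hx, rfl⟩
    have hx' : (x : Spor.Fi24) ∈ up '' FiThree.trans := nb24 ▸ hx
    obtain ⟨t, ht, e1⟩ := hx'
    refine ⟨toCQ t, ⟨t, ht, rfl⟩, ?_⟩
    rw [toCQ_up]
    exact congrArg (QuotientGroup.mk' _) (Subtype.ext e1)
  · rintro ⟨_, ⟨t, ht, rfl⟩, rfl⟩
    refine ⟨e ⟨up t, mul_mem (iota_mem t) l_mem⟩, ?_, ?_⟩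
    · show up t ∈ nbS D24 (gg 11)
      rw [nb24]; exact ⟨t, ht, rfl⟩
    · rw [MulEquiv.ofBijective_apply, toCQ_up]
      rfl

end CfsgLib.Recog.FiTypes
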