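import Cfsg.Agent.Lib.Recog.FiTypes.Packed
import Cfsg.Agent.Lib.Recog.FiThree.Transpositions

set_option autoImplicit false
set_option maxRecDepth 20000
set_option linter.style.haveILetI false

/-!
The transpositions of Fi23 indexed by their 31671 points; lists of them with checked permutations
(owner: helper21).
-/

namespace CfsgLib.Recog.FiTypes

open Cfsg CfsgLib.Recog.BitPerm CfsgLib.Recog.FiThree

attribute [local instance] FiThree.finite_fi23'

/-- The transposition at a point. -/
noncomputable def tr (c : ℕ) : Spor.Fi23 :=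
  if h : c < 31671 then (exists_pt h).choose * zz * (exists_pt h).choose⁻¹ else 1

theorem tr_pt (g : Spor.Fi23) : tr (pt g) = g * zz * g⁻¹ := by
  rw [tr, dif_pos (pt_lt g)]
  set k := (exists_pt (pt_lt g)).choose
  have hk : pt k = pt g := (exists_pt (pt_lt g)).choose_spec
  have e := zz_comm (pt_eq_iff.1 hk.symm)
  calc k * zz * k⁻¹ = g * ((g⁻¹ * k) * zz) * (g⁻¹ * k)⁻¹ * g⁻¹ := by group
    _ = _ := by rw [e]; group

theorem act_lt (h : Spor.Fi23) {c : ℕ} (hc : c < 31671) : act h c < 31671 := by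
  obtain ⟨g, rfl⟩ := exists_pt hc
  have := pt_lt (h * g)
  rwa [pt, map_mul, Equiv.Perm.mul_apply] at this

theorem tr_conj (h : Spor.Fi23) {c : ℕ} (hc : c < 31671) : h * tr c * h⁻¹ = tr (act h c) := by
  obtain ⟨g, rfl⟩ := exists_pt hc
  rw [show act h (pt g) = pt (h * g) by rw [pt, pt, map_mul, Equiv.Perm.mul_apply], tr_pt, tr_pt]
  group

theorem tr_inj {c c' : ℕ} (hc : c < 31671) (hc' : c' < 31671) (e : tr c = tr c') : c = c' := by
  obtain ⟨g, rfl⟩ := exists_pt hc
  obtain ⟨g', rfl⟩ := exists_pt hc'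
  rw [tr_pt, tr_pt] at e
  refine pt_eq_iff.2 ?_
  rw [← centralizer_zz, Subgroup.mem_centralizer_iff]
  intro y hy
  rw [Set.mem_singleton_iff.1 hy]
  calc zz * (g⁻¹ * g') = g⁻¹ * (g * zz * g⁻¹) * g' := by group
    _ = _ := by rw [e]; group

theorem tr_mem {c : ℕ} (hc : c < 31671) : tr c ∈ trans := by
  obtain ⟨g, rfl⟩ := exists_pt hc
  exact mem_trans.2 ⟨g, tr_pt g⟩

theorem exists_tr {d : Spor.Fi23} (hd : d ∈ trans) : ∃ c < 31671, tr c = d := by
  obtain ⟨g, rfl⟩ := mem_trans.1 hd
  exact ⟨pt g, pt_lt g, tr_pt g⟩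

theorem tr_zero : tr 0 = zz := by
  have h := tr_pt 1
  rw [show pt 1 = 0 by rw [pt, map_one]; rfl] at h
  simpa using h

theorem commute_tr {g : Spor.Fi23} {c : ℕ} (hc : c < 31671) : Commute g (tr c) ↔ act g c = c := by
  constructor
  · intro h
    refine tr_inj (act_lt g hc) hc ?_
    rw [← tr_conj g hc, h.eq, mul_inv_cancel_right]
  · intro h
    have e := tr_conj g hc
    rw [h] at e
    exact mul_inv_eq_iff_eq_mul.1 e

/-- The points of the letters. -/
def lpts : List ℕ := [11589, 8006, 8005, 8003, 8002, 8001, 8000, 8004, 8007, 7999]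

/-- The point of a letter. -/
noncomputable def lp (x : ℕ) : ℕ := lpts.getD x 0

theorem lp_lt {x : ℕ} (hx : x < 10) : lp x < 31671 :=
  (show ∀ y < 10, lpts.getD y 0 < 31671 by decide) x hx

theorem lp_base : (Nat.beq (lp 0) pA && Nat.beq (lp 9) pJ) = true := by decide +kernel

theorem lp_edges : ([(0, 1), (1, 2), (2, 3), (3, 4), (3, 7), (4, 5), (5, 6), (7, 8)] : List (ℕ × ℕ)).all
    (fun e => mapsOK net [e.1, e.2] (lp e.1) (lp e.2)) = true := by decide +kernel

theorem gg_eq_tr {x : ℕ} (hx : x < 10) : gg x = tr (lp x) := by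
  have hb := lp_base
  simp only [Bool.and_eq_true] at hb
  have h0 : gg 0 = tr (lp 0) := by rw [Nat.eq_of_beq_eq_true hb.1, ← pt_ga, tr_pt, ga_zz]
  have h9 : gg 9 = tr (lp 9) := by rw [Nat.eq_of_beq_eq_true hb.2, ← pt_gj, tr_pt, gj_zz]
  have step : ∀ a b, a < 10 →
      (a, b) ∈ [(0, 1), (1, 2), (2, 3), (3, 4), (3, 7), (4, 5), (5, 6), (7, 8)] →
      gg a = tr (lp a) → gg b = tr (lp b) := by
    intro a b ha he h
    have he' : (a, b) ∈ [(0, 1), (1, 2), (2, 3), (3, 4), (3, 7), (4, 5), (5, 6), (6, 9), (7, 8)] := by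
      simp only [List.mem_cons, List.not_mem_nil, or_false] at he ⊢
      tauto
    have hbr := word_eq_one (edge_ok he')
    simp only [word, List.map_cons, List.map_nil, List.prod_cons, List.prod_nil, mul_one] at hbr
    have e : gg b = (gg a * gg b) * gg a * (gg a * gg b)⁻¹ := braid_conj (gg_sq a) (gg_sq b) (by rw [← hbr]; group)
    have hm : act (word [a, b]) (lp a) = lp b := act_maps (List.all_eq_true.1 lp_edges _ he)
    rw [← hm, ← tr_conj _ (lp_lt ha), ← h]
    simp only [word, List.map_cons, List.map_nil, List.prod_cons, List.prod_nil, mul_one]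
    exact e
  have h1 := step 0 1 (by omega) (by decide) h0
  have h2 := step 1 2 (by omega) (by decide) h1
  have h3 := step 2 3 (by omega) (by decide) h2
  have h4 := step 3 4 (by omega) (by decide) h3
  have h7 := step 3 7 (by omega) (by decide) h3
  have h5 := step 4 5 (by omega) (by decide) h4
  have h6 := step 5 6 (by omega) (by decide) h5
  have h8 := step 7 8 (by omega) (by decide) h7
  interval_cases x <;> assumption

/-- The word of a conjugated letter. -/
def cword (p : List ℕ × ℕ) : List ℕ := p.1 ++ [p.2] ++ p.1.reverse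

/-- A conjugated letter is the transposition at a point. -/
noncomputable def genOK (p : List ℕ × ℕ) (c : ℕ) : Bool := Nat.blt p.2 10 && mapsOK net p.1 (lp p.2) c

theorem cword_eq {p : List ℕ × ℕ} {c : ℕ} (h : genOK p c = true) : word (cword p) = tr c := by
  simp only [genOK, Bool.and_eq_true] at h
  have hx : p.2 < 10 := Nat.le_of_ble_eq_true h.1
  rw [← act_maps h.2, ← tr_conj _ (lp_lt hx), ← gg_eq_tr hx, cword, word_append, word_append, word_singleton,
    word_reverse]

/-- A list of transpositions with the permutations of some of them. -/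
structure PtList (n k : ℕ) (P : ℕ → ℕ) (gens : List ℕ) (ws : List (List ℕ × ℕ)) (s : ℕ → ℕ → ℕ) (par : ℕ → ℕ) :
    Prop where
  len : gens.length = k
  small : ∀ j < k, gens.getD j 0 < n
  inv : ∀ j < k, invOK (s j) n = true
  bound : Nat.beq (Nat.shiftRight (allSet P n) 31671) 0 = true
  distinct : distinctOK P n 124 = true
  size : n ≤ 2 ^ 12
  gen_ok : ∀ j < k, genOK (ws.getD j ([], 0)) (P (gens.getD j 0)) = true
  maps : ∀ j < k, mapsPts net (cword (ws.getD j ([], 0))) P (s j) n 12 = true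
  reach : reachOK gens s par n = true

namespace PtList

variable {n k : ℕ} {P : ℕ → ℕ} {gens : List ℕ} {ws : List (List ℕ × ℕ)} {s : ℕ → ℕ → ℕ} {par : ℕ → ℕ}
  (L : PtList n k P gens ws s par)
include L

theorem lt {i : ℕ} (hi : i < n) : P i < 31671 := by
  by_contra hge
  have h1 : (allSet P n).testBit (P i) = true := mem_allSet.2 ⟨i, hi, rfl⟩
  have h2 := congrArg (fun X => X.testBit (P i - 31671)) (Nat.eq_of_beq_eq_true L.bound)
  change ((allSet P n) >>> 31671).testBit (P i - 31671) = (0 : ℕ).testBit _ at h2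
  rw [Nat.testBit_shiftRight, show 31671 + (P i - 31671) = P i by omega, h1, Nat.zero_testBit] at h2
  exact Bool.noConfusion h2

/-- The generators. -/
def gen (j : Fin k) : Fin n := ⟨gens.getD j 0, L.small j j.2⟩

/-- The permutations. -/
def perm (j : Fin k) : Equiv.Perm (Fin n) := tabPerm (L.inv j j.2)

omit L in
/-- The listed transpositions. -/
noncomputable def elt (P : ℕ → ℕ) (n : ℕ) (i : Fin n) : Spor.Fi23 := tr (P i)

theorem frame : Frame (elt P n) L.gen L.perm where
  inj i i' h := Fin.ext (inj_of_distinct L.distinct i i.2 i' i'.2 (tr_inj (L.lt i.2) (L.lt i'.2) h))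
  conj j i := by
    have e : elt P n (L.gen j) = word (cword (ws.getD j ([], 0))) := (cword_eq (L.gen_ok j j.2)).symm
    rw [e, elt, tr_conj _ (L.lt i.2), elt, act_word, mapsPts_spec acts.valid (inj_of_distinct L.distinct)
      (L.maps j j.2) L.size i.2 (invOK_spec (L.inv j j.2) i.2).1]
    rfl

theorem reached : Reach L.gen L.perm := reach_of_check L.len L.reach (fun _ => rfl) fun _ _ => rfl

omit L in
theorem range_eq {Z : Set Spor.Fi23}
    (hin : ∀ i : Fin n, elt P n i ∈ Z) (hout : ∀ c < 31671, tr c ∈ Z → (allSet P n).testBit c = true)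
    (hZ : Z ⊆ trans) : Set.range (elt P n) = Z := by
  refine Set.Subset.antisymm (fun z ⟨i, hi⟩ => hi ▸ hin i) fun z hz => ?_
  obtain ⟨c, hc, rfl⟩ := exists_tr (hZ hz)
  obtain ⟨i, hi, rfl⟩ := mem_allSet.1 (hout c hc hz)
  exact ⟨⟨i, hi⟩, rfl⟩

end PtList

end CfsgLib.Recog.FiTypes
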