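import Cfsg.Agent.Lib.Recog.FiTypes.Orth24
import Cfsg.Agent.Lib.Recog.FiTypes.Points

set_option autoImplicit false
set_option maxRecDepth 20000
set_option linter.style.haveILetI false

/-!
The permutation group on 3240 transpositions: an extension of PΩ⁺(8, 3) by the symmetric group on three classes
(owner: helper21).
-/

namespace CfsgLib.Recog.FiTypes.Perm24

open Cfsg CfsgLib.Recog.FiTypes
open CfsgLib.ThreeTrans.CosetIndex (forallFrom forallFrom_elim)

/-- The permutations of the generators. -/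
noncomputable abbrev sp : Fin 9 → Equiv.Perm (Fin 3240) := Check24.ptList.perm

/-- The generators. -/
noncomputable abbrev gen : Fin 9 → Fin 3240 := Check24.ptList.gen

theorem frame : Frame (PtList.elt Data24.pts 3240) gen sp := Check24.ptList.frame

theorem reached : Reach gen sp := Check24.ptList.reached

/-- The group. -/
noncomputable abbrev P : Subgroup (Equiv.Perm (Fin 3240)) := Subgroup.closure (Set.range sp)

theorem sp_mem (j : Fin 9) : sp j ∈ P := Subgroup.subset_closure ⟨j, rfl⟩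

theorem sp_sq (j : Fin 9) : sp j * sp j = 1 := tabPerm_sq _

theorem sp_inv (j : Fin 9) : (sp j)⁻¹ = sp j := inv_eq_of_mul_eq_one_right (sp_sq j)

/-- The class of a point. -/
def cls (i : Fin 3240) : Fin 3 := ⟨i / 1080, by omega⟩

theorem cls_surjective : Function.Surjective cls := fun c =>
  ⟨⟨1080 * c, by omega⟩, Fin.ext (by simp [cls])⟩

/-- The action of the generators on the classes. -/
def piGen (j : Fin 9) : Equiv.Perm (Fin 3) := if (j : ℕ) < 8 then Equiv.swap 1 2 else Equiv.swap 0 1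

theorem cls_sp (j : Fin 9) (i : Fin 3240) : cls (sp j i) = piGen j (cls i) := by
  apply Fin.ext
  show Data24.sig j i / 1080 = _
  by_cases hj : (j : ℕ) < 8
  · have h := Nat.eq_of_beq_eq_true (forallFrom_elim
      (forallFrom_elim Check24.cls_low (Nat.zero_le (j : ℕ)) (by omega)) (Nat.zero_le (i : ℕ)) (by omega))
    rw [h, piGen, if_pos hj]
    exact (show ∀ c : Fin 3, ([0, 2, 1] : List ℕ).getD c 0 = (Equiv.swap (1 : Fin 3) 2 c : ℕ) by decide) (cls i)
  · have h8 : (j : ℕ) = 8 := by omega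
    have h := Nat.eq_of_beq_eq_true (forallFrom_elim Check24.cls_top (Nat.zero_le (i : ℕ)) (by omega))
    rw [h8, h, piGen, if_neg hj]
    exact (show ∀ c : Fin 3, ([1, 0, 2] : List ℕ).getD c 0 = (Equiv.swap (0 : Fin 3) 1 c : ℕ) by decide) (cls i)

theorem exists_class {p : Equiv.Perm (Fin 3240)} (hp : p ∈ P) :
    ∃ q : Equiv.Perm (Fin 3), ∀ i, cls (p i) = q (cls i) := by
  induction hp using Subgroup.closure_induction with
  | mem x hx => obtain ⟨j, rfl⟩ := hx; exact ⟨piGen j, cls_sp j⟩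
  | one => exact ⟨1, fun _ => rfl⟩
  | mul x y _ _ hx hy =>
    obtain ⟨q, hq⟩ := hx
    obtain ⟨q', hq'⟩ := hy
    exact ⟨q * q', fun i => by rw [Equiv.Perm.mul_apply, hq, hq']; rfl⟩
  | inv x _ hx =>
    obtain ⟨q, hq⟩ := hx
    refine ⟨q⁻¹, fun i => ?_⟩
    rw [Equiv.Perm.eq_inv_iff_eq, ← hq, Equiv.Perm.inv_def, Equiv.apply_symm_apply]

theorem class_unique {q q' : Equiv.Perm (Fin 3)} {p : Equiv.Perm (Fin 3240)} (h : ∀ i, cls (p i) = q (cls i))
    (h' : ∀ i, cls (p i) = q' (cls i)) : q = q' := Equiv.ext fun c => by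
  obtain ⟨i, rfl⟩ := cls_surjective c
  rw [← h, h']

/-- The action on the classes. -/
noncomputable def beta : ↥P →* Equiv.Perm (Fin 3) :=
  MonoidHom.mk' (fun p => (exists_class p.2).choose) fun a b =>
    class_unique (exists_class (a * b).2).choose_spec fun i => by
      rw [Subgroup.coe_mul, Equiv.Perm.mul_apply, (exists_class a.2).choose_spec, (exists_class b.2).choose_spec]
      rfl

theorem beta_spec (p : ↥P) (i : Fin 3240) : cls ((p : Equiv.Perm (Fin 3240)) i) = beta p (cls i) :=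
  (exists_class p.2).choose_spec i

theorem beta_sp (j : Fin 9) : beta ⟨sp j, sp_mem j⟩ = piGen j :=
  class_unique (fun i => beta_spec ⟨sp j, sp_mem j⟩ i) (cls_sp j)

/-- The products of the generators of the first class with the first one. -/
noncomputable def base : Subgroup (Equiv.Perm (Fin 3240)) :=
  Subgroup.closure (Set.range fun j : Fin 8 => sp 0 * sp j.castSucc)

theorem base_gen (j : Fin 8) : sp 0 * sp j.castSucc ∈ base := Subgroup.subset_closure ⟨j, rfl⟩

theorem base_pair (a b : Fin 8) : sp a.castSucc * sp b.castSucc ∈ base := by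
  have h := mul_mem (inv_mem (base_gen a)) (base_gen b)
  rwa [mul_inv_rev, sp_inv, sp_inv, mul_assoc, ← mul_assoc (sp 0), sp_sq, one_mul] at h

/-- A product along a word. -/
noncomputable def prodW (w : List ℕ) : Equiv.Perm (Fin 3240) :=
  (w.map fun x => if h : x < 9 then sp ⟨x, h⟩ else 1).prod

theorem prodW_apply : ∀ {w : List ℕ}, (∀ x ∈ w, x < 9) → ∀ i : Fin 3240, (prodW w i : ℕ) = Check24.onPt w i
  | [], _, _ => rfl
  | x :: w, h, i => by
    have hx := h x List.mem_cons_self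
    rw [prodW, List.map_cons, List.prod_cons, dif_pos hx, Equiv.Perm.mul_apply]
    show Data24.sig x (prodW w i : ℕ) = Data24.sig x (Check24.onPt w i)
    rw [prodW_apply (fun y hy => h y (List.mem_cons_of_mem _ hy))]

theorem prodW_base : ∀ (w : List ℕ), (∀ x ∈ w, x < 8) → w.length % 2 = 0 → prodW w ∈ base
  | [], _, _ => one_mem _
  | [_], _, h => by simp at h
  | a :: b :: w, hw, hlen => by
    have ha := hw a List.mem_cons_self
    have hb := hw b (List.mem_cons_of_mem _ List.mem_cons_self)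
    have ih := prodW_base w (fun x hx => hw x (List.mem_cons_of_mem _ (List.mem_cons_of_mem _ hx)))
      (by simp only [List.length_cons] at hlen; omega)
    rw [prodW, List.map_cons, List.map_cons, List.prod_cons, List.prod_cons, dif_pos (by omega), dif_pos (by omega),
      ← mul_assoc]
    exact mul_mem (base_pair ⟨a, ha⟩ ⟨b, hb⟩) ih

theorem prodW_mem (w : List ℕ) : prodW w ∈ P := list_prod_mem fun y hy => by
  obtain ⟨x, -, rfl⟩ := List.mem_map.1 hy
  split_ifs with h
  · exact sp_mem _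
  · exact one_mem _

theorem norm_eq (b : Fin 7) :
    sp 8 * (sp 0 * sp (b.succ.castSucc)) * sp 8 = prodW (Data24.normWords.getD b []) := by
  have hw := forallFrom_elim Check24.norm_even (Nat.zero_le (b : ℕ)) (by omega)
  simp only [Bool.and_eq_true, List.all_eq_true, decide_eq_true_eq] at hw
  refine frame.eq_of_agree reached (mul_mem (mul_mem (sp_mem 8) (mul_mem (sp_mem 0) (sp_mem _))) (sp_mem 8))
    (prodW_mem _) fun j => Fin.ext ?_
  have h := List.all_eq_true.1 (forallFrom_elim Check24.norm_rel (Nat.zero_le (b : ℕ)) (by omega))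
    (Data24.gens.getD j 0) (by
      rw [List.getD_eq_getElem _ _ (by rw [Check24.gens_len]; exact j.2)]
      exact List.getElem_mem _)
  rw [prodW_apply fun x hx => lt_trans (hw.1 x hx) (by norm_num)]
  exact Nat.eq_of_beq_eq_true h

theorem conj_top {x : Equiv.Perm (Fin 3240)} (hx : x ∈ base) : sp 8 * x * sp 8 ∈ base := by
  induction hx using Subgroup.closure_induction with
  | mem y hy =>
    obtain ⟨j, rfl⟩ := hy
    induction j using Fin.cases with
    | zero =>
      simp only [Fin.castSucc_zero, sp_sq, mul_one]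
      exact one_mem _
    | succ b =>
      rw [norm_eq]
      have hw := forallFrom_elim Check24.norm_even (Nat.zero_le (b : ℕ)) (by omega)
      simp only [Bool.and_eq_true, List.all_eq_true, decide_eq_true_eq] at hw
      exact prodW_base _ hw.1 (Nat.eq_of_beq_eq_true hw.2)
  | one => rw [mul_one, sp_sq]; exact one_mem _
  | mul a b _ _ ha hb =>
    have e : sp 8 * (a * b) * sp 8 = (sp 8 * a * sp 8) * (sp 8 * b * sp 8) := by
      calc sp 8 * (a * b) * sp 8 = sp 8 * a * (sp 8 * sp 8) * b * sp 8 := by rw [sp_sq]; group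
        _ = _ := by group
    rw [e]; exact mul_mem ha hb
  | inv a _ ha =>
    have e : sp 8 * a⁻¹ * sp 8 = (sp 8 * a * sp 8)⁻¹ := by rw [mul_inv_rev, mul_inv_rev, sp_inv, mul_assoc]
    rw [e]; exact inv_mem ha

theorem conj_zero {x : Equiv.Perm (Fin 3240)} (hx : x ∈ base) : sp 0 * x * sp 0 ∈ base := by
  induction hx using Subgroup.closure_induction with
  | mem y hy =>
    obtain ⟨j, rfl⟩ := hy
    show sp 0 * (sp 0 * sp j.castSucc) * sp 0 ∈ base
    rw [← mul_assoc, sp_sq, one_mul]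
    exact base_pair j 0
  | one => rw [mul_one, sp_sq]; exact one_mem _
  | mul a b _ _ ha hb =>
    have e : sp 0 * (a * b) * sp 0 = (sp 0 * a * sp 0) * (sp 0 * b * sp 0) := by
      calc sp 0 * (a * b) * sp 0 = sp 0 * a * (sp 0 * sp 0) * b * sp 0 := by rw [sp_sq]; group
        _ = _ := by group
    rw [e]; exact mul_mem ha hb
  | inv a _ ha =>
    have e : sp 0 * a⁻¹ * sp 0 = (sp 0 * a * sp 0)⁻¹ := by rw [mul_inv_rev, mul_inv_rev, sp_inv, mul_assoc]
    rw [e]; exact inv_mem ha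

theorem braid : sp 0 * sp 8 * sp 0 = sp 8 * sp 0 * sp 8 := by
  refine frame.eq_of_agree reached (mul_mem (mul_mem (sp_mem 0) (sp_mem 8)) (sp_mem 0))
    (mul_mem (mul_mem (sp_mem 8) (sp_mem 0)) (sp_mem 8)) fun j => ?_
  have hc : ∀ a b : Fin 9, PtList.elt Data24.pts 3240 (gen a) * PtList.elt Data24.pts 3240 (gen b) *
      (PtList.elt Data24.pts 3240 (gen a))⁻¹ = PtList.elt Data24.pts 3240 (sp a (gen b)) := fun a b => frame.conj a _
  have hi : sp 0 (gen 8) = sp 8 (gen 0) := Fin.ext (Nat.eq_of_beq_eq_true Check24.braid_pt)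
  have e : PtList.elt Data24.pts 3240 (gen 0) * PtList.elt Data24.pts 3240 (gen 8) *
      (PtList.elt Data24.pts 3240 (gen 0))⁻¹ = PtList.elt Data24.pts 3240 (gen 8) *
        PtList.elt Data24.pts 3240 (gen 0) * (PtList.elt Data24.pts 3240 (gen 8))⁻¹ := by rw [hc, hc, hi]
  apply frame.inj
  simp only [Equiv.Perm.mul_apply, ← frame.conj]
  have k : ∀ (u v w : Spor.Fi23), u * (v * (u * w * u⁻¹) * v⁻¹) * u⁻¹ = (u * v * u) * w * (u * v * u)⁻¹ := by
    intro u v w; group
  rw [k, k]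
  set a := PtList.elt Data24.pts 3240 (gen 0)
  set b := PtList.elt Data24.pts 3240 (gen 8)
  have ha : a⁻¹ = a := inv_eq_of_mul_eq_one_right (by
    have := CfsgLib.Recog.FiThree.trans_class.1.1 a (tr_mem (Check24.ptList.lt (gen 0).2))
    rw [← pow_two, ← this, pow_orderOf_eq_one])
  have hb : b⁻¹ = b := inv_eq_of_mul_eq_one_right (by
    have := CfsgLib.Recog.FiThree.trans_class.1.1 b (tr_mem (Check24.ptList.lt (gen 8).2))
    rw [← pow_two, ← this, pow_orderOf_eq_one])
  rw [ha, hb] at e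
  rw [e]

/-- The six remaining products. -/
noncomputable def six : List (Equiv.Perm (Fin 3240)) :=
  [1, sp 0, sp 8, sp 0 * sp 8, sp 8 * sp 0, sp 0 * sp 8 * sp 0]

theorem six_mul {j : Fin 9} (hj : j = 0 ∨ j = 8) {s : Equiv.Perm (Fin 3240)} (hs : s ∈ six) : sp j * s ∈ six := by
  have a2 := sp_sq 0
  have b2 := sp_sq 8
  simp only [six, List.mem_cons, List.not_mem_nil, or_false] at hs ⊢
  rcases hj with rfl | rfl <;> rcases hs with rfl | rfl | rfl | rfl | rfl | rfl
  · exact Or.inr (Or.inl (mul_one _))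
  · exact Or.inl a2
  · exact Or.inr (Or.inr (Or.inr (Or.inl rfl)))
  · exact Or.inr (Or.inr (Or.inl (by rw [← mul_assoc, a2, one_mul])))
  · exact Or.inr (Or.inr (Or.inr (Or.inr (Or.inr (by group)))))
  · exact Or.inr (Or.inr (Or.inr (Or.inr (Or.inl (by rw [← mul_assoc, ← mul_assoc, a2, one_mul])))))
  · exact Or.inr (Or.inr (Or.inl (mul_one _)))
  · exact Or.inr (Or.inr (Or.inr (Or.inr (Or.inl rfl))))
  · exact Or.inl b2
  · exact Or.inr (Or.inr (Or.inr (Or.inr (Or.inr (by rw [← mul_assoc, braid])))))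
  · exact Or.inr (Or.inl (by rw [← mul_assoc, b2, one_mul]))
  · exact Or.inr (Or.inr (Or.inr (Or.inl (by rw [braid, ← mul_assoc, ← mul_assoc, b2, one_mul]))))

/-- Every element is a product of one of the subgroup and one of the six. -/
theorem decomp {p : Equiv.Perm (Fin 3240)} (hp : p ∈ P) : ∃ x ∈ base, ∃ s ∈ six, p = x * s := by
  have step : ∀ j : Fin 9, ∀ q : Equiv.Perm (Fin 3240), (∃ x ∈ base, ∃ s ∈ six, q = x * s) →
      ∃ x ∈ base, ∃ s ∈ six, sp j * q = x * s := by
    rintro j q ⟨x, hx, s, hs, rfl⟩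
    by_cases h8 : j = 8
    · subst h8
      refine ⟨sp 8 * x * sp 8, conj_top hx, sp 8 * s, six_mul (Or.inr rfl) hs, ?_⟩
      rw [mul_assoc (sp 8 * x), ← mul_assoc (sp 8) (sp 8), sp_sq, one_mul, mul_assoc]
    · have hlt : (j : ℕ) < 8 := by
        have := Fin.val_ne_iff.2 h8
        rw [show ((8 : Fin 9) : ℕ) = 8 from rfl] at this
        omega
      refine ⟨sp j * sp 0 * (sp 0 * x * sp 0), mul_mem (base_pair ⟨j, hlt⟩ 0) (conj_zero hx), sp 0 * s,
        six_mul (Or.inl rfl) hs, ?_⟩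
      calc sp j * (x * s) = sp j * ((sp 0 * sp 0) * x * (sp 0 * sp 0)) * s := by rw [sp_sq]; group
        _ = _ := by group
  induction hp using Subgroup.closure_induction_left with
  | one => exact ⟨1, one_mem _, 1, List.mem_cons_self, (one_mul _).symm⟩
  | mul_left x hx y _ hy => obtain ⟨j, rfl⟩ := hx; exact step j y hy
  | inv_mul_cancel x hx y _ hy => obtain ⟨j, rfl⟩ := hx; rw [sp_inv]; exact step j y hy

theorem base_le : base ≤ P := by
  refine (Subgroup.closure_le _).2 ?_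
  rintro _ ⟨j, rfl⟩
  exact mul_mem (sp_mem 0) (sp_mem _)

theorem beta_base {p : ↥P} (hp : (p : Equiv.Perm (Fin 3240)) ∈ base) : beta p = 1 := by
  obtain ⟨p, hpP⟩ := p
  change p ∈ base at hp
  induction hp using Subgroup.closure_induction with
  | mem y hy =>
    obtain ⟨j, rfl⟩ := hy
    have e : (⟨sp 0 * sp j.castSucc, hpP⟩ : ↥P) = ⟨sp 0, sp_mem 0⟩ * ⟨sp j.castSucc, sp_mem _⟩ := rfl
    rw [e, map_mul, beta_sp, beta_sp, piGen, piGen, if_pos (by decide), if_pos (show (j.castSucc : ℕ) < 8 from j.2),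
      Equiv.swap_mul_self]
  | one => exact map_one beta
  | mul a b ha hb iha ihb =>
    have e : (⟨a * b, hpP⟩ : ↥P) = ⟨a, base_le ha⟩ * ⟨b, base_le hb⟩ := rfl
    rw [e, map_mul, iha (base_le ha), ihb (base_le hb), one_mul]
  | inv a ha iha =>
    have e : (⟨a⁻¹, hpP⟩ : ↥P) = (⟨a, base_le ha⟩)⁻¹ := rfl
    rw [e, map_inv, iha (base_le ha), inv_one]

theorem ker_beta : beta.ker.map P.subtype = base := by
  refine le_antisymm ?_ fun x hx => ⟨⟨x, base_le hx⟩, MonoidHom.mem_ker.2 (beta_base hx), rfl⟩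
  rintro _ ⟨⟨p, hp⟩, hk, rfl⟩
  obtain ⟨x, hx, s, hs, rfl⟩ := decomp hp
  have hsP : s ∈ P := by
    simp only [six, List.mem_cons, List.not_mem_nil, or_false] at hs
    rcases hs with rfl | rfl | rfl | rfl | rfl | rfl
    exacts [one_mem _, sp_mem _, sp_mem _, mul_mem (sp_mem _) (sp_mem _), mul_mem (sp_mem _) (sp_mem _),
      mul_mem (mul_mem (sp_mem _) (sp_mem _)) (sp_mem _)]
  have e : (⟨x * s, hp⟩ : ↥P) = ⟨x, base_le hx⟩ * ⟨s, hsP⟩ := rfl
  rw [SetLike.mem_coe, MonoidHom.mem_ker, e, map_mul, beta_base hx, one_mul] at hk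
  have h0 := beta_sp 0
  have h8 := beta_sp 8
  rw [piGen, if_pos (by decide)] at h0
  rw [piGen, if_neg (by decide)] at h8
  simp only [six, List.mem_cons, List.not_mem_nil, or_false] at hs
  show x * s ∈ base
  rcases hs with rfl | rfl | rfl | rfl | rfl | rfl
  · rw [mul_one]; exact hx
  · rw [h0] at hk; exact absurd hk (by decide)
  · rw [h8] at hk; exact absurd hk (by decide)
  · rw [show (⟨sp 0 * sp 8, hsP⟩ : ↥P) = ⟨sp 0, sp_mem 0⟩ * ⟨sp 8, sp_mem 8⟩ from rfl, map_mul, h0, h8] at hk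
    exact absurd hk (by decide)
  · rw [show (⟨sp 8 * sp 0, hsP⟩ : ↥P) = ⟨sp 8, sp_mem 8⟩ * ⟨sp 0, sp_mem 0⟩ from rfl, map_mul, h0, h8] at hk
    exact absurd hk (by decide)
  · rw [show (⟨sp 0 * sp 8 * sp 0, hsP⟩ : ↥P) = ⟨sp 0, sp_mem 0⟩ * ⟨sp 8, sp_mem 8⟩ * ⟨sp 0, sp_mem 0⟩ from rfl,
      map_mul, map_mul, h0, h8] at hk
    exact absurd hk (by decide)

theorem beta_surjective : Function.Surjective beta := by
  rw [← MonoidHom.range_eq_top]
  have h0 : Equiv.swap (1 : Fin 3) 2 ∈ beta.range := ⟨⟨sp 0, sp_mem 0⟩, by rw [beta_sp]; rfl⟩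
  have h8 : Equiv.swap (0 : Fin 3) 1 ∈ beta.range := ⟨⟨sp 8, sp_mem 8⟩, by rw [beta_sp]; rfl⟩
  refine eq_top_iff.2 fun q _ => ?_
  have hq : q = 1 ∨ q = Equiv.swap 1 2 ∨ q = Equiv.swap 0 1 ∨ q = Equiv.swap 1 2 * Equiv.swap 0 1 ∨
      q = Equiv.swap 0 1 * Equiv.swap 1 2 ∨ q = Equiv.swap 1 2 * Equiv.swap 0 1 * Equiv.swap 1 2 := by
    clear h0 h8
    exact (show ∀ q : Equiv.Perm (Fin 3), q = 1 ∨ q = Equiv.swap 1 2 ∨ q = Equiv.swap 0 1 ∨
      q = Equiv.swap 1 2 * Equiv.swap 0 1 ∨ q = Equiv.swap 0 1 * Equiv.swap 1 2 ∨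
      q = Equiv.swap 1 2 * Equiv.swap 0 1 * Equiv.swap 1 2 by decide) q
  rcases hq with rfl | rfl | rfl | rfl | rfl | rfl
  exacts [one_mem _, h0, h8, mul_mem h0 h8, mul_mem h8 h0, mul_mem (mul_mem h0 h8) h0]

theorem class_fixed (n : beta.ker) (i : Fin 3240) :
    cls (((n : ↥P) : Equiv.Perm (Fin 3240)) i) = cls i := by
  rw [beta_spec, MonoidHom.mem_ker.1 n.2]; rfl

/-- The kernel on the first class. -/
noncomputable def rest : beta.ker →* Equiv.Perm (Fin 1080) where
  toFun n := Equiv.ofBijective (fun i => ⟨(((n : ↥P) : Equiv.Perm (Fin 3240)) ⟨i, by omega⟩ : ℕ), by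
      have h := congrArg Fin.val (class_fixed n ⟨i, by omega⟩)
      simp only [cls] at h
      omega⟩) (Finite.injective_iff_bijective.1 fun a b h => by
      have h' := ((n : ↥P) : Equiv.Perm (Fin 3240)).injective (Fin.ext (congrArg Fin.val h :))
      exact Fin.ext (congrArg (fun x : Fin 3240 => (x : ℕ)) h'))
  map_one' := Equiv.ext fun i => Fin.ext rfl
  map_mul' a b := Equiv.ext fun i => Fin.ext rfl

theorem rest_val (n : beta.ker) (i : Fin 1080) :
    (rest n i : ℕ) = (((n : ↥P) : Equiv.Perm (Fin 3240)) ⟨i, by omega⟩ : ℕ) := rfl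

theorem commute_of_fix {p : Equiv.Perm (Fin 3240)} (hp : p ∈ P) {j : Fin 9} (h : p (gen j) = gen j) :
    p * sp j = sp j * p := by
  have hp' : p ∈ (frame.hom reached).range := by rw [frame.range_eq reached]; exact hp
  obtain ⟨x, hx⟩ := hp'
  refine Equiv.ext fun i => frame.inj ?_
  have hs := frame.hom_spec reached x
  rw [hx] at hs
  have hg : (x : Spor.Fi23) * PtList.elt Data24.pts 3240 (gen j) * (x : Spor.Fi23)⁻¹ =
      PtList.elt Data24.pts 3240 (gen j) := by rw [← hs, h]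
  rw [Equiv.Perm.mul_apply, Equiv.Perm.mul_apply, hs, ← frame.conj, ← frame.conj, hs]
  conv_rhs => rw [← hg]
  group

theorem rest_injective : Function.Injective rest := by
  refine (MonoidHom.ker_eq_bot_iff _).1 ((Subgroup.eq_bot_iff_forall _).2 fun n hn => ?_)
  rw [MonoidHom.mem_ker] at hn
  set p := ((n : ↥P) : Equiv.Perm (Fin 3240))
  have hp : p ∈ P := (n : ↥P).2
  have hfix : ∀ j : Fin 8, p (gen j.castSucc) = gen j.castSucc := fun j => by
    have h := congrArg Fin.val (Equiv.ext_iff.1 hn ⟨Data24.gens.getD j 0, Check24.small8 j j.2⟩)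
    exact Fin.ext h
  have hcomm : ∀ w : List ℕ, (∀ x ∈ w, x < 8) → p * prodW w = prodW w * p := by
    intro w
    induction w with
    | nil => intro _; exact (Commute.one_right p).eq
    | cons x w ih =>
      intro hw
      have hx := hw x List.mem_cons_self
      rw [prodW, List.map_cons, List.prod_cons, dif_pos (by omega)]
      exact ((show Commute p (sp ⟨x, by omega⟩) from commute_of_fix hp (hfix ⟨x, hx⟩)).mul_right
        (ih fun y hy => hw y (List.mem_cons_of_mem _ hy))).eq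
  have hlast : p (gen 8) = gen 8 := by
    have hw8 := Check24.fix_small
    simp only [List.all_eq_true, decide_eq_true_eq] at hw8
    have h2 : cls (p (gen 8)) = cls (gen 8) := class_fixed n (gen 8)
    have h2' := congrArg Fin.val h2
    simp only [cls] at h2'
    have hg8 : (gen 8 : ℕ) = 2160 := rfl
    rw [hg8] at h2'
    have hkey := forallFrom_elim Check24.fix_only (show 2160 ≤ (p (gen 8) : ℕ) by omega) (by omega)
    rw [Bool.or_eq_true, Bool.not_eq_true'] at hkey
    rcases hkey with h | h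
    · exact Fin.ext ((Nat.eq_of_beq_eq_true h).trans hg8.symm)
    · exfalso
      refine absurd (List.all_eq_true.2 fun w hw => ?_) (Bool.eq_false_iff.1 h)
      have hw9 : ∀ x ∈ w, x < 9 := fun x hx => lt_trans (hw8 w hw x hx) (by norm_num)
      have h1 : prodW w (gen 8) = gen 8 := Fin.ext (by
        rw [prodW_apply hw9, hg8]
        exact Nat.eq_of_beq_eq_true (List.all_eq_true.1 Check24.fix_self w hw))
      have h3 : prodW w (p (gen 8)) = p (gen 8) := by
        rw [← Equiv.Perm.mul_apply, ← hcomm w (hw8 w hw), Equiv.Perm.mul_apply, h1]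
      rw [← prodW_apply hw9, h3, Nat.beq_refl]
  refine Subtype.ext (Subtype.ext (frame.eq_of_agree reached hp (one_mem _) fun j => ?_))
  induction j using Fin.lastCases with
  | last => exact hlast
  | cast j => exact hfix j

theorem rest_range : rest.range = Orth24.evenRho := by
  have e : ∀ j : Fin 8, ∀ hP hk, rest ⟨⟨sp 0 * sp j.castSucc, hP⟩, hk⟩ = Orth24.rho 0 * Orth24.rho j :=
    fun j _ _ => Equiv.ext fun i => Fin.ext rfl
  refine le_antisymm ?_ ((Subgroup.closure_le _).2 ?_)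
  · rintro _ ⟨⟨⟨p, hp⟩, hk⟩, rfl⟩
    have hb : p ∈ base := ker_beta ▸ ⟨⟨p, hp⟩, hk, rfl⟩
    induction hb using Subgroup.closure_induction with
    | mem y hy =>
      obtain ⟨j, rfl⟩ := hy
      rw [e]
      exact Subgroup.subset_closure ⟨j, rfl⟩
    | one =>
      have e1 : (⟨⟨1, hp⟩, hk⟩ : beta.ker) = 1 := rfl
      rw [e1, map_one]; exact one_mem _
    | mul a b ha hb iha ihb =>
      have ka : (⟨a, base_le ha⟩ : ↥P) ∈ beta.ker := MonoidHom.mem_ker.2 (beta_base ha)
      have kb : (⟨b, base_le hb⟩ : ↥P) ∈ beta.ker := MonoidHom.mem_ker.2 (beta_base hb)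
      have e1 : (⟨⟨a * b, hp⟩, hk⟩ : beta.ker) = ⟨⟨a, base_le ha⟩, ka⟩ * ⟨⟨b, base_le hb⟩, kb⟩ := rfl
      rw [e1, map_mul]
      exact mul_mem (iha _ ka) (ihb _ kb)
    | inv a ha iha =>
      have ka : (⟨a, base_le ha⟩ : ↥P) ∈ beta.ker := MonoidHom.mem_ker.2 (beta_base ha)
      have e1 : (⟨⟨a⁻¹, hp⟩, hk⟩ : beta.ker) = (⟨⟨a, base_le ha⟩, ka⟩)⁻¹ := rfl
      rw [e1, map_inv]
      exact inv_mem (iha _ ka)
  · rintro _ ⟨j, rfl⟩
    exact ⟨⟨⟨sp 0 * sp j.castSucc, base_le (base_gen j)⟩, MonoidHom.mem_ker.2 (beta_base (base_gen j))⟩, e j _ _⟩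

theorem ker_equiv : Nonempty (↥beta.ker ≃* POmega (ZMod 3) (quadFormPlus 4 (ZMod 3))) := by
  obtain ⟨e⟩ := Orth24.evenRho_equiv
  exact ⟨((MonoidHom.ofInjective rest_injective).trans (MulEquiv.subgroupCongr rest_range)).trans e⟩

/-- **An extension of PΩ⁺(8, 3) by the symmetric group of degree three.** -/
theorem section_data {X : Type*} [Group X] (e : X ≃* ↥P) :
    ∃ (N : Subgroup X) (_ : N.Normal), Nonempty (↥N ≃* POmega (ZMod 3) (quadFormPlus 4 (ZMod 3))) ∧
      Nonempty (X ⧸ N ≃* Equiv.Perm (Fin 3)) := by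
  let f : X →* Equiv.Perm (Fin 3) := beta.comp e.toMonoidHom
  refine ⟨f.ker, inferInstance, ?_, ⟨QuotientGroup.quotientKerEquivOfSurjective f
    (beta_surjective.comp e.surjective)⟩⟩
  have hmap : f.ker.map e.toMonoidHom = beta.ker := by
    ext y
    rw [Subgroup.mem_map_equiv, MonoidHom.mem_ker, MonoidHom.mem_ker]
    show beta (e (e.symm y)) = 1 ↔ _
    rw [e.apply_symm_apply]
  obtain ⟨k⟩ := ker_equiv
  exact ⟨((e.subgroupMap f.ker).trans (MulEquiv.subgroupCongr hmap)).trans k⟩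

end CfsgLib.Recog.FiTypes.Perm24
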