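import Cfsg.Agent.Lib.Recog.FiTypes.Fi24Class
import Cfsg.Agent.Lib.Recog.FiTypes.Perm24

set_option autoImplicit false
set_option maxRecDepth 20000
set_option linter.style.haveILetI false

/-!
Fi24 with its transpositions is of type M(24) (owner: helper21).
-/

namespace CfsgLib.Recog.FiTypes

open Cfsg CfsgLib.Recog.BitPerm CfsgLib.Recog.FiFour CfsgLib.Recog.SporBound
open CfsgLib.ThreeTrans.CosetIndex (forallFrom forallFrom_elim)
open CfsgLib.Recog.FiFour.Aut (l_mem)

attribute [local instance] FiThree.finite_fi23' finite_fi24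

theorem up_word {w : List ℕ} (hw : w.all (· < 10) = true) (hodd : w.length % 2 = 1) :
    up (FiThree.word w) = word w := by
  rw [up, iota_word hw, signed, if_pos hodd, word_append, word_singleton, mul_assoc, gg_sq, mul_one]

theorem cword_props {p : List ℕ × ℕ} (h1 : p.1.all (· < 10) = true) (h2 : p.2 < 10) :
    (cword p).all (· < 10) = true ∧ (cword p).length % 2 = 1 := by
  refine ⟨?_, ?_⟩
  · rw [cword, List.all_append, List.all_append, List.all_reverse, h1]
    simp [h2]
  · simp only [cword, List.length_append, List.length_reverse, List.length_cons, List.length_nil]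
    omega

/-- The transpositions attached to the common list. -/
noncomputable def e24 (i : Fin 3240) : Spor.Fi24 := up (PtList.elt Data24.pts 3240 i)

theorem frame24 : Frame e24 Perm24.gen Perm24.sp where
  inj := fun i i' h => Perm24.frame.inj (up_inj h)
  conj j i := by
    show up _ * up _ * (up _)⁻¹ = up _
    rw [up_conj, Perm24.frame.conj]

theorem ws_length : Data24.ws.length = 9 := by decide

theorem gen_comm (j : Fin 9) : Commute (e24 (Perm24.gen j)) (gg 10) := by
  have hj : (j : ℕ) < Data24.ws.length := by rw [ws_length]; exact j.2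
  have hg := Check24.ptList.gen_ok j j.2
  rw [List.getD_eq_getElem _ _ hj] at hg
  have h := List.all_eq_true.1 Check24.gen_fix _ (List.getElem_mem hj)
  simp only [Bool.and_eq_true] at h
  obtain ⟨hw, hodd⟩ := cword_props h.2.1 (Nat.le_of_ble_eq_true h.2.2)
  show Commute (up (tr (Data24.pts (Perm24.gen j)))) (gg 10)
  rw [show tr (Data24.pts (Perm24.gen j)) = FiThree.word (cword Data24.ws[(j : ℕ)]) from (cword_eq hg).symm,
    up_word hw hodd, comm_k_iff]
  exact act_maps h.1

theorem e24_comm (i : Fin 3240) : Commute (e24 i) (gg 10) := by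
  refine Perm24.reached (fun i => Commute (e24 i) (gg 10)) gen_comm (fun j i hi => ?_) i
  rw [← frame24.conj]
  exact ((gen_comm j).mul_left hi).mul_left (gen_comm j).inv_left

theorem rep_not_comm : ¬ Commute (up (tr 11)) (gg 10) := by
  intro h
  obtain ⟨hw, hodd⟩ := cword_props (p := Check24.repOut) (by decide) (by decide)
  rw [← cword_eq Check24.rep_ok, up_word hw hodd] at h
  have hW : act (word (cword Check24.repOut)) 0 = 0 := top_fix (mem_letterSub fun z hz => lt_mem
    (of_decide_eq_true (List.all_eq_true.1 hw z hz)))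
  have h1 : act (word (cword Check24.repOut)) 1 = 258163 := act_maps Check24.rep_move
  generalize word (cword Check24.repOut) = W at h hW h1
  have h2 : act (W * gg 10) 0 = act (gg 10 * W) 0 := by rw [h.eq]
  rw [map_mul, map_mul, Equiv.Perm.mul_apply, Equiv.Perm.mul_apply, k_pt, h1, hW, k_pt] at h2
  exact absurd h2 (by decide)

/-- Conjugation preserving the commuting with the other letter. -/
def Follows (u : Spor.Fi23) : Prop := ∀ t, (Commute (up (u * t * u⁻¹)) (gg 10) ↔ Commute (up t) (gg 10))

theorem follows_gen (j : Fin 9) : Follows (PtList.elt Data24.pts 3240 (Perm24.gen j)) := fun t => by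
  rw [← up_conj]
  constructor
  · intro h
    have h2 := (((gen_comm j).inv_left.mul_left h).mul_left (gen_comm j))
    have e : (e24 (Perm24.gen j))⁻¹ * (up (PtList.elt Data24.pts 3240 (Perm24.gen j)) * up t *
        (up (PtList.elt Data24.pts 3240 (Perm24.gen j)))⁻¹) * e24 (Perm24.gen j) = up t := by rw [e24]; group
    rwa [e] at h2
  · intro h
    exact ((gen_comm j).mul_left h).mul_left (gen_comm j).inv_left

theorem follows_closure {u : Spor.Fi23}
    (hu : u ∈ Subgroup.closure (Set.range fun j => PtList.elt Data24.pts 3240 (Perm24.gen j))) : Follows u := by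
  induction hu using Subgroup.closure_induction with
  | mem x hx => obtain ⟨j, rfl⟩ := hx; exact follows_gen j
  | one => intro t; rw [one_mul, inv_one, mul_one]
  | mul a b _ _ ha hb =>
    intro t
    rw [show a * b * t * (a * b)⁻¹ = a * (b * t * b⁻¹) * a⁻¹ by group]
    exact (ha _).trans (hb t)
  | inv a _ ha =>
    intro t
    have h := ha (a⁻¹ * t * a⁻¹⁻¹)
    rw [show a * (a⁻¹ * t * a⁻¹⁻¹) * a⁻¹ = t by group] at h
    exact h.symm

theorem orbit_not_comm {c : ℕ} (hc : (orbitSet FiThree.net Check24.genWords 11 4).testBit c = true) :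
    ¬ Commute (up (tr c)) (gg 10) := by
  set U := Subgroup.closure (Set.range fun j => PtList.elt Data24.pts 3240 (Perm24.gen j))
  have hK : ∀ w ∈ Check24.genWords, wordPerm FiThree.net w ∈ U.map FiThree.act := by
    intro w hw
    obtain ⟨p, hp, rfl⟩ := List.mem_map.1 hw
    obtain ⟨j, hj, rfl⟩ := List.getElem_of_mem hp
    have hj9 : j < 9 := ws_length ▸ hj
    have hg := Check24.ptList.gen_ok j hj9
    rw [List.getD_eq_getElem _ _ hj] at hg
    rw [← FiThree.act_word]
    refine Subgroup.mem_map_of_mem _ ?_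
    rw [cword_eq hg]
    exact Subgroup.subset_closure ⟨⟨j, hj9⟩, rfl⟩
  obtain ⟨-, ⟨u, hu, rfl⟩, e⟩ := orbitSet_sub FiThree.acts.valid hK _ c hc
  have h := follows_closure hu (tr 11)
  rw [tr_conj u (by omega), e] at h
  rw [h]
  exact rep_not_comm

theorem common24 : nbS D24 (gg 11) ∩ nbS D24 (gg 10) = Set.range e24 := by
  ext d
  constructor
  · rintro ⟨h1, -, -, hk⟩
    rw [nb24] at h1
    obtain ⟨t, ht, rfl⟩ := h1
    obtain ⟨c, hc, rfl⟩ := exists_tr ht
    have hO : (orbitSet FiThree.net Check24.genWords 11 4).testBit c = false :=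
      Bool.eq_false_iff.2 fun h => orbit_not_comm h hk.symm
    obtain ⟨i, hi, e⟩ :=
      mem_allSet.1 (@testBit_of_cover _ _ c _ Check24.cover (@full_testBit 31671 c hc) hO)
    exact ⟨⟨i, hi⟩, by rw [e24, PtList.elt, ← e]⟩
  · rintro ⟨i, rfl⟩
    have h1 : e24 i ∈ nbS D24 (gg 11) := by
      rw [nb24]; exact ⟨_, tr_mem (Check24.ptList.lt i.2), rfl⟩
    refine ⟨h1, h1.1, fun e => not_commute_lk ?_, (e24_comm i).symm⟩
    rw [← e]
    exact h1.2.2

theorem pair24_data : ∃ (N : Subgroup (CQ (Subgroup.closure (nbS D24 (gg 11) ∩ nbS D24 (gg 10))))) (_ : N.Normal),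
    Nonempty (↥N ≃* POmega (ZMod 3) (quadFormPlus 4 (ZMod 3))) ∧
      Nonempty (CQ (Subgroup.closure (nbS D24 (gg 11) ∩ nbS D24 (gg 10))) ⧸ N ≃* Equiv.Perm (Fin 3)) := by
  obtain ⟨e0⟩ := cq_of_eq (congrArg Subgroup.closure common24)
  obtain ⟨e1⟩ := frame24.equiv_perm Perm24.reached
  exact Perm24.section_data (e0.trans e1)

/-- **Fi24 is of type M(24).** -/
theorem type24 : IsOfTypeM24 Spor.Fi24 D24 :=
  ⟨center24, gg 11, mem_conjugatesOf_self, gg 10, k_mem, not_commute_lk, section24, pair24_data⟩

end CfsgLib.Recog.FiTypes
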