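import Cfsg.Agent.Lib.Recog.FiTypes.ConjPerm
import Cfsg.Agent.Lib.Recog.FiFour.Aut.Moved
import Cfsg.Agent.Lib.Recog.BitPerm.Orbit

set_option autoImplicit false

/-!
Packed tables for the point sets and their permutations, checked through bit planes (owner: helper21).
-/

namespace CfsgLib.Recog.FiTypes

open CfsgLib.Recog.BitPerm
open CfsgLib.ThreeTrans.CosetIndex (forallFrom forallFrom_elim)

/-- The cell of width `w` at a position. -/
noncomputable def cell (w A i : ℕ) : ℕ := Nat.land (Nat.shiftRight A (w * i)) (2 ^ w - 1)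

theorem cell_lt (w A i : ℕ) : cell w A i < 2 ^ w := by
  have h : cell w A i ≤ 2 ^ w - 1 := Nat.and_le_right
  have := Nat.two_pow_pos w
  omega

/-- The set of the positions `P i`, `i < n`, selected by a test. -/
noncomputable def collect (P : ℕ → ℕ) (sel : ℕ → Bool) (n : ℕ) : ℕ :=
  Nat.rec 0 (fun i D => cond (sel i) (Nat.lor D (Nat.shiftLeft 1 (P i))) D) n

theorem testBit_collect (P : ℕ → ℕ) (sel : ℕ → Bool) :
    ∀ n c, (collect P sel n).testBit c = true ↔ ∃ i < n, sel i = true ∧ P i = c
  | 0, c => by simp [collect]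
  | n + 1, c => by
    have ih := testBit_collect P sel n c
    show (cond (sel n) (Nat.lor (collect P sel n) (Nat.shiftLeft 1 (P n))) (collect P sel n) : ℕ).testBit c = true ↔ _
    cases hs : sel n
    · rw [cond_false, ih]
      constructor
      · rintro ⟨i, hi, h1, h2⟩; exact ⟨i, by omega, h1, h2⟩
      · rintro ⟨i, hi, h1, h2⟩
        refine ⟨i, ?_, h1, h2⟩
        rcases Nat.lt_succ_iff_lt_or_eq.1 hi with h | h
        · exact h
        · subst h; rw [hs] at h1; exact Bool.noConfusion h1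
    · rw [cond_true]
      change (collect P sel n ||| (1 <<< P n : ℕ)).testBit c = true ↔ _
      rw [Nat.testBit_or, Bool.or_eq_true, ih, Nat.one_shiftLeft, Nat.testBit_two_pow, decide_eq_true_eq]
      constructor
      · rintro (⟨i, hi, h1, h2⟩ | h)
        · exact ⟨i, by omega, h1, h2⟩
        · exact ⟨n, by omega, hs, h⟩
      · rintro ⟨i, hi, h1, h2⟩
        rcases Nat.lt_succ_iff_lt_or_eq.1 hi with h | h
        · exact Or.inl ⟨i, h, h1, h2⟩
        · exact Or.inr (h ▸ h2)

/-- All positions. -/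
noncomputable def allSet (P : ℕ → ℕ) (n : ℕ) : ℕ := collect P (fun _ => true) n

theorem mem_allSet {P : ℕ → ℕ} {n c : ℕ} : (allSet P n).testBit c = true ↔ ∃ i < n, P i = c := by
  rw [allSet, testBit_collect]
  simp

/-- The positions are distinct and below `256 * blocks`. -/
noncomputable def distinctOK (P : ℕ → ℕ) (n blocks : ℕ) : Bool :=
  Nat.ble n (bitCountBlocks (allSet P n) blocks)

theorem inj_of_distinct {P : ℕ → ℕ} {n blocks : ℕ} (h : distinctOK P n blocks = true) :
    ∀ i < n, ∀ i' < n, P i = P i' → i = i' := by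
  rw [distinctOK, Nat.ble_eq, bitCountBlocks_eq] at h
  have hsub : ((Finset.range (256 * blocks)).filter fun i => (allSet P n).testBit i = true) ⊆
      (Finset.range n).image P := fun c hc => by
    obtain ⟨i, hi, e⟩ := mem_allSet.1 (Finset.mem_filter.1 hc).2
    exact Finset.mem_image.2 ⟨i, Finset.mem_range.2 hi, e⟩
  have hcard : ((Finset.range n).image P).card = (Finset.range n).card :=
    le_antisymm Finset.card_image_le (by rw [Finset.card_range]; exact h.trans (Finset.card_le_card hsub))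
  intro i hi i' hi' e
  exact Finset.card_image_iff.1 hcard (Finset.mem_range.2 hi) (Finset.mem_range.2 hi') e

/-- A word moves `P i` to `P (s i)`. -/
noncomputable def mapsPts (net : ℕ → List Stage) (w : List ℕ) (P s : ℕ → ℕ) (n bits : ℕ) : Bool :=
  Nat.beq (runWord net w (allSet P n)) (allSet P n) && forallFrom (fun r =>
    Nat.beq (runWord net w (collect P (fun i => i.testBit r) n)) (collect P (fun i => (s i).testBit r) n)) 0 bits

theorem mapsPts_spec {B : ℕ} {net : ℕ → List Stage} (hV : Valid B net) {w : List ℕ} {P s : ℕ → ℕ} {n bits : ℕ}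
    (hP : ∀ i < n, ∀ i' < n, P i = P i' → i = i') (h : mapsPts net w P s n bits = true) (hn : n ≤ 2 ^ bits)
    {i : ℕ} (hi : i < n) (hs : s i < n) : wordPerm net w (P i) = P (s i) := by
  simp only [mapsPts, Bool.and_eq_true] at h
  have hmem : (allSet P n).testBit (wordPerm net w (P i)) = true := by
    rw [← testBit_runWord hV, Nat.eq_of_beq_eq_true h.1]
    exact mem_allSet.2 ⟨i, hi, rfl⟩
  obtain ⟨m, hm, e⟩ := mem_allSet.1 hmem
  have hsel : ∀ (f : ℕ → Bool) (j : ℕ), j < n → (collect P f n).testBit (P j) = f j := fun f j hj => by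
    rw [Bool.eq_iff_iff, testBit_collect]
    exact ⟨fun ⟨j', hj', h1, h2⟩ => hP j' hj' j hj h2 ▸ h1, fun h1 => ⟨j, hj, h1, rfl⟩⟩
  rw [← e]
  congr 1
  refine Nat.eq_of_testBit_eq fun r => ?_
  rcases Nat.lt_or_ge r bits with hr | hr
  · have h1 := congrArg (fun X => X.testBit (P i))
      (Nat.eq_of_beq_eq_true (forallFrom_elim h.2 (Nat.zero_le r) (by omega)))
    simp only [testBit_runWord hV, ← e, hsel _ m hm, hsel _ i hi] at h1
    exact h1
  · have hlt : ∀ x, x < n → x.testBit r = false := fun x hx => Nat.testBit_eq_false_of_lt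
      (lt_of_lt_of_le (lt_of_lt_of_le hx hn) (Nat.pow_le_pow_right (by omega) hr))
    rw [hlt m hm, hlt _ hs]

/-- An involutive table of `n` entries. -/
noncomputable def invOK (s : ℕ → ℕ) (n : ℕ) : Bool :=
  forallFrom (fun i => Nat.blt (s i) n && Nat.beq (s (s i)) i) 0 n

theorem invOK_spec {s : ℕ → ℕ} {n : ℕ} (h : invOK s n = true) {i : ℕ} (hi : i < n) : s i < n ∧ s (s i) = i := by
  have := forallFrom_elim h (Nat.zero_le i) (by omega)
  simp only [Bool.and_eq_true] at this
  exact ⟨Nat.le_of_ble_eq_true this.1, Nat.eq_of_beq_eq_true this.2⟩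

/-- The permutation of an involutive table. -/
def tabPerm {s : ℕ → ℕ} {n : ℕ} (h : invOK s n = true) : Equiv.Perm (Fin n) where
  toFun i := ⟨s i, (invOK_spec h i.2).1⟩
  invFun i := ⟨s i, (invOK_spec h i.2).1⟩
  left_inv i := Fin.ext (invOK_spec h i.2).2
  right_inv i := Fin.ext (invOK_spec h i.2).2

theorem tabPerm_apply {s : ℕ → ℕ} {n : ℕ} (h : invOK s n = true) (i : Fin n) : (tabPerm h i : ℕ) = s i := rfl

theorem tabPerm_sq {s : ℕ → ℕ} {n : ℕ} (h : invOK s n = true) : tabPerm h * tabPerm h = 1 :=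
  Equiv.ext fun i => (tabPerm h).left_inv i

/-- Every point is a generator or comes from an earlier one. -/
noncomputable def reachOK (gens : List ℕ) (s : ℕ → ℕ → ℕ) (par : ℕ → ℕ) (n : ℕ) : Bool :=
  forallFrom (fun i => gens.any (fun g => Nat.beq g i) ||
    (Nat.blt (par i / 16) i && (Nat.blt (par i % 16) gens.length && Nat.beq (s (par i % 16) (par i / 16)) i))) 0 n

theorem reach_of_check {gens : List ℕ} {s : ℕ → ℕ → ℕ} {par : ℕ → ℕ} {n k : ℕ} (hk : gens.length = k)
    (h : reachOK gens s par n = true) {gen : Fin k → Fin n} (hgen : ∀ j, (gen j : ℕ) = gens.getD j 0)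
    {σ : Fin k → Equiv.Perm (Fin n)} (hσ : ∀ j i, (σ j i : ℕ) = s j i) : Reach gen σ := by
  intro P hP hstep i
  suffices H : ∀ m, ∀ (hm : m < n), P ⟨m, hm⟩ from H i i.2
  intro m
  induction m using Nat.strong_induction_on with
  | _ m ih =>
    intro hm
    have hc := forallFrom_elim h (Nat.zero_le m) (by omega)
    simp only [Bool.or_eq_true, Bool.and_eq_true, List.any_eq_true] at hc
    rcases hc with ⟨g, hg, e⟩ | ⟨h1, h2, h3⟩
    · obtain ⟨j, hj, rfl⟩ := List.getElem_of_mem hg
      convert hP ⟨j, hk ▸ hj⟩ using 1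
      exact Fin.ext (by rw [hgen, List.getD_eq_getElem _ _ hj, Nat.eq_of_beq_eq_true e])
    · have hp : par m / 16 < m := Nat.le_of_ble_eq_true h1
      convert hstep ⟨par m % 16, hk ▸ (Nat.le_of_ble_eq_true h2 : par m % 16 < gens.length)⟩ ⟨par m / 16, lt_trans hp hm⟩ (ih _ hp _) using 1
      exact Fin.ext (by rw [hσ]; exact (Nat.eq_of_beq_eq_true h3).symm)

end CfsgLib.Recog.FiTypes
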