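import Cfsg.Agent.Lib.Recog.FiTypes.Refl
import Cfsg.Prelude.Def_Classical
import Cfsg.Agent.Lib.Classical.Quad.StandardForms

set_option autoImplicit false

/-! The sum of squares and the hyperbolic form on codes (owner: helper21). -/

namespace CfsgLib.Recog.FiTypes

open QuadraticMap (polar polarBilin)

/-- The value of the sum of squares. -/
noncomputable def sumSq (m c : ℕ) : ℕ := Nat.rec 0 (fun k r => r + dig c k * dig c k) m

/-- The polar value of the sum of squares. -/
noncomputable def sumMul (m a b : ℕ) : ℕ := Nat.rec 0 (fun k r => r + 2 * dig a k * dig b k) m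

/-- The value of the hyperbolic form in dimension eight. -/
noncomputable def hypQ (c : ℕ) : ℕ := Nat.rec 0 (fun k r => r + dig c k * dig c (k + 4)) 4

/-- The polar value of the hyperbolic form. -/
noncomputable def hypB (a b : ℕ) : ℕ := Nat.rec 0 (fun k r => r + (dig a k * dig b (k + 4) + dig b k * dig a (k + 4))) 4

theorem sumSq_eq : ∀ (m c : ℕ), (sumSq m c : ℕ) = ∑ i : Fin m, dig c i * dig c i
  | 0, c => by simp [sumSq]
  | m + 1, c => by
    rw [Fin.sum_univ_castSucc]
    show sumSq m c + _ = _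
    rw [sumSq_eq m c]; rfl

theorem sumMul_eq : ∀ (m a b : ℕ), (sumMul m a b : ℕ) = ∑ i : Fin m, 2 * dig a i * dig b i
  | 0, a, b => by simp [sumMul]
  | m + 1, a, b => by
    rw [Fin.sum_univ_castSucc]
    show sumMul m a b + _ = _
    rw [sumMul_eq m a b]; rfl

/-- The sum of squares. -/
noncomputable def sqForm (m : ℕ) : QuadraticForm (ZMod 3) (Fin m → ZMod 3) :=
  QuadraticMap.weightedSumSquares (ZMod 3) (fun _ : Fin m => (1 : ZMod 3))

theorem sqForm_apply (m : ℕ) (v : Fin m → ZMod 3) : sqForm m v = ∑ i, v i * v i := by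
  simp [sqForm, QuadraticMap.weightedSumSquares_apply]

theorem polar_sqForm (m : ℕ) (v w : Fin m → ZMod 3) : polar (sqForm m) v w = ∑ i, 2 * v i * w i := by
  rw [polar, sqForm_apply, sqForm_apply, sqForm_apply, ← Finset.sum_sub_distrib, ← Finset.sum_sub_distrib]
  exact Finset.sum_congr rfl fun i _ => by simp only [Pi.add_apply]; ring

theorem sqForm_nondeg (m : ℕ) : (polarBilin (sqForm m)).Nondegenerate := by
  have key : ∀ v, (∀ w, polar (sqForm m) v w = 0) → v = 0 := fun v hv => funext fun i => by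
    have h := hv (Pi.single i 1)
    rw [polar_sqForm, Finset.sum_eq_single i (fun j _ hj => by rw [Pi.single_eq_of_ne hj, mul_zero])
      (fun h => absurd (Finset.mem_univ i) h), Pi.single_eq_same, mul_one] at h
    exact (mul_eq_zero.1 h).resolve_left (by decide)
  exact ⟨fun v hv => key v hv, fun v hv => key v fun w => by rw [QuadraticMap.polar_comm]; exact hv w⟩

theorem sqForm_det (m : ℕ) : Cfsg.polarGramDet (⇑(sqForm m)) = 2 ^ m := by
  rw [Cfsg.polarGramDet, show (Matrix.of fun i j : Fin m => polar (sqForm m) (Pi.single i 1) (Pi.single j 1)) =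
      Matrix.diagonal (fun _ => (2 : ZMod 3)) from ?_, Matrix.det_diagonal, Finset.prod_const, Finset.card_univ,
    Fintype.card_fin]
  ext i j
  rw [Matrix.of_apply, polar_sqForm, Finset.sum_eq_single i (fun l _ hl => by rw [Pi.single_eq_of_ne hl]; ring)
    (fun h => absurd (Finset.mem_univ i) h), Pi.single_eq_same, mul_one]
  by_cases h : i = j
  · subst h; simp
  · rw [Pi.single_eq_of_ne h, mul_zero, Matrix.diagonal_apply_ne _ h]

/-- The sum of squares with its values on codes. -/
noncomputable def sqGeo (m : ℕ) : Geo (Fin m) m where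
  pos := Equiv.refl _
  Q := sqForm m
  qN := sumSq m
  bN := sumMul m
  q_eq c := by
    rw [sqForm_apply, sumSq_eq, Nat.cast_sum]
    exact Finset.sum_congr rfl fun i _ => by rw [Nat.cast_mul]; rfl
  b_eq a b := by
    rw [polar_sqForm, sumMul_eq, Nat.cast_sum]
    exact Finset.sum_congr rfl fun i _ => by rw [Nat.cast_mul, Nat.cast_mul]; rfl

/-- The hyperbolic form with its values on codes. -/
noncomputable def hypGeo : Geo (Fin 4 ⊕ Fin 4) 8 where
  pos := finSumFinEquiv
  Q := CfsgLib.Classical.Quad.qPlus 4 (ZMod 3)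
  qN := hypQ
  bN := hypB
  q_eq c := by
    rw [CfsgLib.Classical.Quad.coe_qPlus, Cfsg.quadFormPlus, Fin.sum_univ_four]
    show _ = ((0 + dig c 0 * dig c 4 + dig c 1 * dig c 5 + dig c 2 * dig c 6 + dig c 3 * dig c 7 : ℕ) : ZMod 3)
    push_cast
    rw [zero_add]
    rfl
  b_eq a b := by
    rw [CfsgLib.Classical.Quad.polar_qPlus, Fin.sum_univ_four]
    show _ = ((0 + (dig a 0 * dig b 4 + dig b 0 * dig a 4) + (dig a 1 * dig b 5 + dig b 1 * dig a 5) +
      (dig a 2 * dig b 6 + dig b 2 * dig a 6) + (dig a 3 * dig b 7 + dig b 3 * dig a 7) : ℕ) : ZMod 3)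
    push_cast
    rw [zero_add]
    rfl

end CfsgLib.Recog.FiTypes
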