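import Cfsg.Agent.Lib.Recog.FiTypes.Points
import Cfsg.Agent.Lib.Recog.FiTypes.Forms
import Cfsg.Agent.Lib.Recog.FiTypes.Data23

set_option autoImplicit false
set_option maxRecDepth 20000
set_option Elab.async false

/-! Checks of the tables for type M(23) (owner: helper21). -/

namespace CfsgLib.Recog.FiTypes.Check23

open CfsgLib.Recog.BitPerm CfsgLib.Recog.FiTypes.Data23
open CfsgLib.Recog.FiThree (net zW)
open CfsgLib.ThreeTrans.CosetIndex (forallFrom forallFrom_elim)
open CfsgLib.Recog.FiFour.Aut (movedB)

theorem gens_len : gens.length = 7 := by decide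

theorem small : ∀ j < 7, gens.getD j 0 < 351 := by decide

theorem bound : Nat.beq (Nat.shiftRight (allSet pts 351) 31671) 0 = true := by decide +kernel

theorem distinct : distinctOK pts 351 124 = true := by decide +kernel

theorem reach : reachOK gens sig par 351 = true := by decide +kernel

theorem gen_ok : forallFrom (fun j => genOK (ws.getD j ([], 0)) (pts (gens.getD j 0))) 0 7 = true := by decide +kernel

theorem inv : forallFrom (fun j => invOK (sig j) 351) 0 7 = true := by decide +kernel

theorem maps0 : mapsPts net (cword (ws.getD 0 ([], 0))) pts (sig 0) 351 12 = true := by decide +kernel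

theorem maps1 : mapsPts net (cword (ws.getD 1 ([], 0))) pts (sig 1) 351 12 = true := by decide +kernel

theorem maps2 : mapsPts net (cword (ws.getD 2 ([], 0))) pts (sig 2) 351 12 = true := by decide +kernel

theorem maps3 : mapsPts net (cword (ws.getD 3 ([], 0))) pts (sig 3) 351 12 = true := by decide +kernel

theorem maps4 : mapsPts net (cword (ws.getD 4 ([], 0))) pts (sig 4) 351 12 = true := by decide +kernel

theorem maps5 : mapsPts net (cword (ws.getD 5 ([], 0))) pts (sig 5) 351 12 = true := by decide +kernel

theorem maps6 : mapsPts net (cword (ws.getD 6 ([], 0))) pts (sig 6) 351 12 = true := by decide +kernel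

theorem maps : ∀ j < 7, mapsPts net (cword (ws.getD j ([], 0))) pts (sig j) 351 12 = true := by
  intro j hj
  interval_cases j
  · exact maps0
  · exact maps1
  · exact maps2
  · exact maps3
  · exact maps4
  · exact maps5
  · exact maps6

theorem ptList : PtList 351 7 pts gens ws sig par where
  len := gens_len
  small := small
  inv _ hj := forallFrom_elim inv (Nat.zero_le _) (by omega)
  bound := bound
  distinct := distinct
  size := by norm_num
  gen_ok _ hj := forallFrom_elim gen_ok (Nat.zero_le _) (by omega)
  maps := maps
  reach := reach

theorem norm_ok : normOK 7 (sumSq 7) 1 code idx 351 = true := by decide +kernel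

theorem cover_ok : coverOK 7 (sumSq 7) 1 code idx 351 0 (3 ^ 7) = true := by decide +kernel

theorem steps_ok : forallFrom (fun j => gStepOK 7 (sumMul 7) 1 code (sig j) (gens.getD j 0) 351) 0 7 = true := by
  decide +kernel

theorem cover : Nat.beq (Nat.lor (Nat.lor (movedB 15 net zW) (movedB 15 net [9])) (allSet pts 351))
    (2 ^ 31671 - 1) = true := by decide +kernel

theorem apart : Nat.beq (Nat.land (Nat.lor (movedB 15 net zW) (movedB 15 net [9])) (allSet pts 351)) 0 = true := by
  decide +kernel

end CfsgLib.Recog.FiTypes.Check23
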