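import Cfsg.Agent.Lib.Recog.FiTypes.Type22
import Cfsg.Agent.Lib.Recog.FiTypes.Check23

set_option autoImplicit false
set_option maxRecDepth 20000
set_option linter.style.haveILetI false

/-!
Fi23 with its transpositions is of type M(23) (owner: helper21).
-/

namespace CfsgLib.Recog.FiTypes

open Cfsg CfsgLib.Recog.BitPerm CfsgLib.Recog.FiThree CfsgLib.Recog.SporBound
open CfsgLib.Recog.FiFour.Aut (movedB not_movedB fix_of_not_movedB)

attribute [local instance] FiThree.finite_fi23'

theorem pJ_bound : pJ < 31671 := by rw [← pt_gj]; exact pt_lt _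

theorem not_commute_zz : ¬ Commute zz (gg 9) := fun h => by
  rw [← tr_pJ, commute_tr pJ_bound, show act zz pJ = pZ from act_maps z_maps] at h
  exact Nat.ne_of_beq_eq_false pZ_ne h.symm

theorem gg9_mem : gg 9 ∈ trans := mem_trans.2 ⟨word gj, gj_zz.symm⟩

theorem primitive23 : IsPrimitiveUnderConj trans := by
  refine primitive_of_maximal (fun M hM => ?_) ⟨word gj, fun e => not_commute_zz ?_⟩
  · rw [centralizer_zz] at hM ⊢
    exact hSub_maximal hM
  · rw [gj_zz] at e
    rw [e]

theorem center23 : Subgroup.center Spor.Fi23 = ⊥ :=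
  (Subgroup.eq_bot_iff_forall _).2 fun _ hn => center_eq_one fun x _ => Subgroup.mem_center_iff.1 hn (gg x)

theorem closure_nb23 : Subgroup.closure (nbS trans zz) = hSub := by
  refine le_antisymm ((Subgroup.closure_le _).2 fun _ h => nb_mem_h h) ?_
  conv_lhs => rw [hSub, letterSub]
  rw [Subgroup.closure_le]
  rintro _ ⟨x, hx, rfl⟩
  exact Subgroup.subset_closure (gg_mem_nb hx)

theorem section23 : IsOfTypeM22 (CQ (Subgroup.closure (nbS trans zz)))
    ((QuotientGroup.mk : ↥(Subgroup.closure (nbS trans zz)) → _) ''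
      {x : ↥(Subgroup.closure (nbS trans zz)) | (x : Spor.Fi23) ∈ nbS trans zz}) := by
  set e := (MulEquiv.subgroupCongr closure_nb23).symm with he
  convert type22_congr (cqCongr e) type22 using 1
  ext q
  constructor
  · rintro ⟨x, hx, rfl⟩
    exact ⟨_, ⟨⟨x, closure_nb23 ▸ x.2⟩, hx, rfl⟩, rfl⟩
  · rintro ⟨_, ⟨h, hh, rfl⟩, rfl⟩
    exact ⟨e h, hh, rfl⟩

theorem pts23_fix (i : Fin 351) : Commute zz (PtList.elt Data23.pts 351 i) ∧
    Commute (gg 9) (PtList.elt Data23.pts 351 i) := by
  have hA : (allSet Data23.pts 351).testBit (Data23.pts i) = true := mem_allSet.2 ⟨i, i.2, rfl⟩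
  have hlt : Data23.pts i < 31671 := Check23.ptList.lt i.2
  have h := testBit_lor_false.1 (testBit_of_apart Check23.apart hA)
  have fix : ∀ {w : List ℕ}, (movedB 15 net w).testBit (Data23.pts i) = false →
      Commute (word w) (tr (Data23.pts i)) := fun hw => by
    rw [commute_tr hlt, act_word]
    exact fix_of_not_movedB acts.valid (hlt.trans (by norm_num)) hw
  refine ⟨fix h.1, ?_⟩
  have h9 := fix h.2
  rwa [word_singleton] at h9

theorem common23 : nbS trans zz ∩ nbS trans (gg 9) = Set.range (PtList.elt Data23.pts 351) := by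
  ext x
  constructor
  · rintro ⟨⟨hd, -, hcz⟩, -, -, hc9⟩
    obtain ⟨c, hc, rfl⟩ := exists_tr hd
    rw [commute_tr hc] at hcz
    rw [← word_singleton, commute_tr hc] at hc9
    simp only [act_word] at hcz hc9
    have hM : (Nat.lor (movedB 15 net zW) (movedB 15 net [9])).testBit c = false :=
      testBit_lor_false.2 ⟨not_movedB acts.valid hcz, not_movedB acts.valid hc9⟩
    obtain ⟨i, hi, e⟩ :=
      mem_allSet.1 (@testBit_of_cover _ _ c _ Check23.cover (@full_testBit 31671 c hc) hM)
    exact ⟨⟨i, hi⟩, by rw [PtList.elt, ← e]⟩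
  · rintro ⟨i, rfl⟩
    obtain ⟨kz, k9⟩ := pts23_fix i
    have hm : PtList.elt Data23.pts 351 i ∈ trans := tr_mem (Check23.ptList.lt i.2)
    refine ⟨⟨hm, fun e => not_commute_zz ?_, kz⟩, ⟨hm, fun e => not_commute_zz ?_, k9⟩⟩
    · rw [e] at k9
      exact k9.symm
    · rw [e] at kz
      exact kz

theorem listed23 : (sqGeo 7).Listed 1 Data23.code Data23.idx 351 where
  cn_val := Or.inl rfl
  norm := Check23.norm_ok
  cover c hc := forallFrom_single Check23.cover_ok (Nat.zero_le c) (by omega)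

theorem pair23 : IsProjReflectionGroupModThree (CQ (Subgroup.closure (nbS trans zz ∩ nbS trans (gg 9)))) 7
    (-((1 : ℕ) : ZMod 3)) ((1 : ℕ) : ZMod 3) := by
  refine ⟨sqForm 7, sqForm_nondeg 7, by rw [sqForm_det]; decide, ?_⟩
  obtain ⟨e0⟩ := cq_of_eq (congrArg Subgroup.closure common23)
  obtain ⟨e1⟩ := Check23.ptList.frame.equiv_perm Check23.ptList.reached
  have F := listed23.frame (gen := Check23.ptList.gen) (σ := Check23.ptList.perm) (s := Data23.sig)
    (fun j i => rfl) fun j =>
      CfsgLib.ThreeTrans.CosetIndex.forallFrom_elim Check23.steps_ok (Nat.zero_le (j : ℕ)) (by omega)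
  obtain ⟨e2⟩ := F.equiv_perm Check23.ptList.reached
  obtain ⟨e3⟩ := reflectionSubgroup_map (sqGeo 7) listed23
  exact ⟨e0.trans (e1.trans (e2.symm.trans (cqCongr e3).symm))⟩

/-- **Fi23 is of type M(23).** -/
theorem type23 : IsOfTypeM23 Spor.Fi23 trans :=
  ⟨center23, zz, mem_conjugatesOf_self, gg 9, gg9_mem, not_commute_zz, section23, ((1 : ℕ) : ZMod 3), by decide,
    pair23⟩

end CfsgLib.Recog.FiTypes
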