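import Cfsg.Agent.Lib.Recog.FiTypes.Packed
import Cfsg.Agent.Lib.ThreeTrans.ReflectionsF3
import Cfsg.Agent.Lib.Classical.Quad.POmega

set_option autoImplicit false

/-!
The reflections of one norm over the field with three elements as listed elements with permutations
(owner: helper21).
-/

namespace CfsgLib.Recog.FiTypes

open Cfsg CfsgLib.Classical.Quad
open QuadraticMap (polar polarBilin)
open CfsgLib.ThreeTrans.CosetIndex (forallFrom forallFrom_elim)

/-- A ternary digit. -/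
noncomputable def dig (c k : ℕ) : ℕ := c / 3 ^ k % 3

/-- The number with given digits. -/
noncomputable def ofDigs (m : ℕ) : (ℕ → ℕ) → ℕ :=
  Nat.rec (fun _ => 0) (fun _ ih d => d 0 + 3 * ih fun k => d (k + 1)) m

theorem dig_lt (c k : ℕ) : dig c k < 3 := Nat.mod_lt _ (by omega)

theorem dig_succ (c k : ℕ) : dig c (k + 1) = dig (c / 3) k := by
  rw [dig, dig, pow_succ', Nat.div_div_eq_div_mul]

theorem dig_ofDigs : ∀ (m : ℕ) (d : ℕ → ℕ), (∀ k < m, d k < 3) → ∀ k < m, dig (ofDigs m d) k = d k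
  | 0, _, _, k, hk => absurd hk (Nat.not_lt_zero k)
  | m + 1, d, hd, k, hk => by
    have ih := dig_ofDigs m (fun k => d (k + 1)) fun k hk => hd (k + 1) (by omega)
    have h0 := hd 0 (by omega)
    show dig (d 0 + 3 * ofDigs m fun k => d (k + 1)) k = d k
    match k with
    | 0 => simp only [dig, pow_zero, Nat.div_one]; omega
    | k + 1 =>
      rw [dig_succ, show (d 0 + 3 * ofDigs m fun k => d (k + 1)) / 3 = ofDigs m fun k => d (k + 1) by omega]
      exact ih k (by omega)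

theorem ofDigs_lt : ∀ (m : ℕ) (d : ℕ → ℕ), (∀ k < m, d k < 3) → ofDigs m d < 3 ^ m
  | 0, _, _ => by simp [ofDigs]
  | m + 1, d, hd => by
    have ih := ofDigs_lt m (fun k => d (k + 1)) fun k hk => hd (k + 1) (by omega)
    have h0 := hd 0 (by omega)
    show d 0 + 3 * ofDigs m (fun k => d (k + 1)) < _
    rw [pow_succ]
    omega

theorem eq_of_dig : ∀ (m : ℕ) {c c' : ℕ}, c < 3 ^ m → c' < 3 ^ m → (∀ k < m, dig c k = dig c' k) → c = c'
  | 0, c, c', h, h', _ => by simp at h h'; omega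
  | m + 1, c, c', h, h', hd => by
    rw [pow_succ] at h h'
    have h0 := hd 0 (by omega)
    simp only [dig, pow_zero, Nat.div_one] at h0
    have h1 := eq_of_dig m (c := c / 3) (c' := c' / 3) (by omega) (by omega) fun k hk => by
      rw [← dig_succ, ← dig_succ]; exact hd (k + 1) (by omega)
    omega

/-- The code of the opposite vector. -/
noncomputable def negCode (m c : ℕ) : ℕ := ofDigs m fun k => 2 * dig c k % 3

/-- Congruent numbers give the same residue. -/
theorem cast_congr {x y : ℕ} (h : x % 3 = y % 3) : (x : ZMod 3) = y := (ZMod.natCast_eq_natCast_iff' x y 3).2 h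

/-- A form on coordinates with its values on codes. -/
structure Geo (ι : Type) [Fintype ι] [DecidableEq ι] (m : ℕ) where
  /-- the coordinates -/
  pos : ι ≃ Fin m
  /-- the form -/
  Q : QuadraticForm (ZMod 3) (ι → ZMod 3)
  /-- the value on a code -/
  qN : ℕ → ℕ
  /-- the polar value on codes -/
  bN : ℕ → ℕ → ℕ
  q_eq : ∀ c, Q (fun j => (dig c (pos j) : ZMod 3)) = (qN c : ZMod 3)
  b_eq : ∀ a b, polar Q (fun j => (dig a (pos j) : ZMod 3)) (fun j => (dig b (pos j) : ZMod 3)) = (bN a b : ZMod 3)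

/-- One step of a reflection, up to sign. -/
noncomputable def stepOK (m : ℕ) (bN : ℕ → ℕ → ℕ) (cn a v w : ℕ) : Bool :=
  let b := cn * bN v a % 3
  forallFrom (fun k => Nat.beq ((dig v k + 2 * b * dig a k) % 3) (1 * dig w k % 3)) 0 m ||
    forallFrom (fun k => Nat.beq ((dig v k + 2 * b * dig a k) % 3) (2 * dig w k % 3)) 0 m

/-- The listed codes: norms and inverse table. -/
noncomputable def normOK (m : ℕ) (qN : ℕ → ℕ) (cn : ℕ) (code idx : ℕ → ℕ) (n : ℕ) : Bool :=
  forallFrom (fun i => Nat.blt (code i) (3 ^ m) && (Nat.beq (qN (code i) % 3) cn &&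
    (Nat.beq (idx (code i)) i && Nat.beq (idx (negCode m (code i))) i))) 0 n

/-- Every vector of the norm is listed. -/
noncomputable def coverOK (m : ℕ) (qN : ℕ → ℕ) (cn : ℕ) (code idx : ℕ → ℕ) (n start len : ℕ) : Bool :=
  forallFrom (fun c => !Nat.beq (qN c % 3) cn ||
    (Nat.blt (idx c) n && (Nat.beq (code (idx c)) c || Nat.beq (code (idx c)) (negCode m c)))) start len

/-- All steps of one generator. -/
noncomputable def gStepOK (m : ℕ) (bN : ℕ → ℕ → ℕ) (cn : ℕ) (code s : ℕ → ℕ) (g n : ℕ) : Bool :=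
  forallFrom (fun i => stepOK m bN cn (code g) (code i) (code (s i))) 0 n

namespace Geo

variable {ι : Type} [Fintype ι] [DecidableEq ι] {m : ℕ} (G : Geo ι m)

/-- The vector of a code. -/
noncomputable def vec (c : ℕ) : ι → ZMod 3 := fun j => (dig c (G.pos j) : ZMod 3)

theorem vec_neg (c : ℕ) : G.vec (negCode m c) = (2 : ZMod 3) • G.vec c := by
  funext j
  simp only [vec, negCode, Pi.smul_apply, smul_eq_mul]
  rw [dig_ofDigs m _ (fun k _ => Nat.mod_lt _ (by omega)) _ (G.pos j).2]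
  rw [cast_congr (Nat.mod_mod _ 3)]
  push_cast
  ring

theorem exists_code (v : ι → ZMod 3) : ∃ c < 3 ^ m, G.vec c = v := by
  let d : ℕ → ℕ := fun k => if h : k < m then (v (G.pos.symm ⟨k, h⟩)).val else 0
  have hd : ∀ k < m, d k < 3 := fun k hk => by simp only [d, dif_pos hk]; exact ZMod.val_lt _
  refine ⟨ofDigs m d, ofDigs_lt m d hd, funext fun j => ?_⟩
  show (dig _ _ : ZMod 3) = v j
  rw [dig_ofDigs m d hd _ (G.pos j).2]
  simp only [d, dif_pos (G.pos j).2, Fin.eta, Equiv.symm_apply_apply, ZMod.natCast_val, ZMod.cast_id', id_eq]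

theorem vec_inj {c c' : ℕ} (h : c < 3 ^ m) (h' : c' < 3 ^ m) (e : G.vec c = G.vec c') : c = c' := by
  refine eq_of_dig m h h' fun k hk => ?_
  have h1 := congrFun e (G.pos.symm ⟨k, hk⟩)
  simp only [vec, Equiv.apply_symm_apply] at h1
  rw [ZMod.natCast_eq_natCast_iff', Nat.mod_eq_of_lt (dig_lt c k), Nat.mod_eq_of_lt (dig_lt c' k)] at h1
  exact h1

/-- The checks for a list of vectors. -/
structure Listed (cn : ℕ) (code idx : ℕ → ℕ) (n : ℕ) : Prop where
  cn_val : cn = 1 ∨ cn = 2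
  norm : normOK m G.qN cn code idx n = true
  cover : ∀ c < 3 ^ m, coverOK m G.qN cn code idx n c 1 = true

variable {G} {cn : ℕ} {code idx : ℕ → ℕ} {n : ℕ}

theorem Listed.ne_zero (L : G.Listed cn code idx n) : (cn : ZMod 3) ≠ 0 := by
  rcases L.cn_val with rfl | rfl <;> decide

theorem Listed.props (L : G.Listed cn code idx n) {i : ℕ} (hi : i < n) :
    code i < 3 ^ m ∧ G.Q (G.vec (code i)) = (cn : ZMod 3) ∧ idx (code i) = i ∧ idx (negCode m (code i)) = i := by
  have h := forallFrom_elim L.norm (Nat.zero_le i) (by omega)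
  simp only [Bool.and_eq_true] at h
  refine ⟨Nat.le_of_ble_eq_true h.1, ?_, Nat.eq_of_beq_eq_true h.2.2.1, Nat.eq_of_beq_eq_true h.2.2.2⟩
  refine (G.q_eq _).trans (cast_congr ?_)
  have := Nat.eq_of_beq_eq_true h.2.1
  rcases L.cn_val with rfl | rfl <;> omega

/-- The listed reflections. -/
noncomputable def Listed.elt (L : G.Listed cn code idx n) (i : Fin n) : OQ G.Q :=
  refl (v := G.vec (code i)) (by rw [(L.props i.2).2.1]; exact L.ne_zero)

theorem refl_congr {V : Type*} [AddCommGroup V] [Module (ZMod 3) V] {Q : QuadraticForm (ZMod 3) V} {v w : V}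
    (hv : Q v ≠ 0) (hw : Q w ≠ 0) {t : ZMod 3} (ht : t ≠ 0) [FiniteDimensional (ZMod 3) V] (e : w = t • v) :
    refl hw = refl hv := by
  subst e; exact refl_smul hv ht

theorem Listed.inj (L : G.Listed cn code idx n) : Function.Injective L.elt := by
  intro i i' h
  obtain ⟨hi, hq, h1, h2⟩ := L.props i.2
  obtain ⟨hi', hq', h1', h2'⟩ := L.props i'.2
  set v := G.vec (code i)
  set w := G.vec (code i')
  have h0 : (refl (Q := G.Q) (v := v) (by rw [hq]; exact L.ne_zero) : (ι → ZMod 3) ≃ₗ[ZMod 3] (ι → ZMod 3)) v =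
      (refl (Q := G.Q) (v := w) (by rw [hq']; exact L.ne_zero) : (ι → ZMod 3) ≃ₗ[ZMod 3] (ι → ZMod 3)) v :=
    congrArg (fun g : OQ G.Q => (g : (ι → ZMod 3) ≃ₗ[ZMod 3] (ι → ZMod 3)) v) h
  rw [refl_apply, refl_apply, hq, hq', polar_self', hq] at h0
  obtain ⟨t, hvw⟩ : ∃ t : ZMod 3, v = t • w := by
    refine ⟨(2 : ZMod 3)⁻¹ * ((cn : ZMod 3)⁻¹ * polar G.Q v w), ?_⟩
    have hne := L.ne_zero
    have e1 : (2 : ZMod 3) • v = ((cn : ZMod 3)⁻¹ * polar G.Q v w) • w := by
      have h3 := sub_right_injective h0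
      rw [← h3]
      congr 1
      field_simp
    rw [mul_smul, ← e1, smul_smul, inv_mul_cancel₀ (by decide), one_smul]
  have ht : t = 1 ∨ t = 2 := by
    have : t ≠ 0 := fun e => by
      rw [e, zero_smul] at hvw
      exact L.ne_zero (by rw [← hq, hvw, QuadraticMap.map_zero])
    exact (by decide : ∀ x : ZMod 3, x ≠ 0 → x = 1 ∨ x = 2) t this
  refine Fin.ext ?_
  rcases ht with rfl | rfl
  · rw [one_smul] at hvw
    rw [← h1, ← h1', G.vec_inj hi hi' hvw]
  · rw [← G.vec_neg] at hvw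
    exact h1.symm.trans ((congrArg idx
      (G.vec_inj hi (ofDigs_lt m _ fun k _ => Nat.mod_lt _ (by omega)) hvw)).trans h2')

theorem Listed.mem_range (L : G.Listed cn code idx n) {v : ι → ZMod 3} (hv : G.Q v = (cn : ZMod 3)) :
    refl (Q := G.Q) (v := v) (by rw [hv]; exact L.ne_zero) ∈ Set.range L.elt := by
  obtain ⟨c, hc, rfl⟩ := G.exists_code v
  have h := forallFrom_elim (L.cover c hc) le_rfl (Nat.lt_succ_self c)
  simp only [Bool.or_eq_true, Bool.and_eq_true, Bool.not_eq_true'] at h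
  rcases h with h | ⟨h1, h2⟩
  · exfalso
    have e : ((G.qN c : ℕ) : ZMod 3) = (cn : ZMod 3) := (G.q_eq c).symm.trans hv
    rw [ZMod.natCast_eq_natCast_iff'] at e
    have h' := Nat.ne_of_beq_eq_false h
    rcases L.cn_val with rfl | rfl <;> omega
  refine ⟨⟨idx c, Nat.le_of_ble_eq_true h1⟩, ?_⟩
  rcases h2 with h2 | h2
  · exact refl_congr _ _ one_ne_zero (by rw [one_smul, Nat.eq_of_beq_eq_true h2])
  · exact refl_congr _ _ (show (2 : ZMod 3) ≠ 0 by decide) (by rw [Nat.eq_of_beq_eq_true h2, vec_neg])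

theorem Listed.range_eq (L : G.Listed cn code idx n) :
    Set.range L.elt = {g | ∃ (v : ι → ZMod 3) (hv : G.Q v ≠ 0), G.Q v = (cn : ZMod 3) ∧ g = refl hv} := by
  refine Set.Subset.antisymm ?_ ?_
  · rintro _ ⟨i, rfl⟩
    exact ⟨_, _, (L.props i.2).2.1, rfl⟩
  · rintro _ ⟨v, hv, hc, rfl⟩
    exact L.mem_range hc

theorem Listed.invariant (L : G.Listed cn code idx n) (g : OQ G.Q) (i : Fin n) :
    ∃ i', g * L.elt i * g⁻¹ = L.elt i' := by
  obtain ⟨i', hi'⟩ := L.mem_range (v := (g : (ι → ZMod 3) ≃ₗ[ZMod 3] (ι → ZMod 3)) (G.vec (code i)))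
    (by rw [OQ.map_apply]; exact (L.props i.2).2.1)
  exact ⟨i', by rw [hi', Listed.elt, refl_conj]⟩

theorem Listed.frame (L : G.Listed cn code idx n) {k : ℕ} {gen : Fin k → Fin n} {s : ℕ → ℕ → ℕ}
    {σ : Fin k → Equiv.Perm (Fin n)} (hσ : ∀ j i, (σ j i : ℕ) = s j i)
    (hstep : ∀ j : Fin k, gStepOK m G.bN cn code (s j) (gen j) n = true) : Frame L.elt gen σ where
  inj := L.inj
  conj j i := by
    rw [Listed.elt, Listed.elt, refl_conj]
    have h := forallFrom_elim (hstep j) (Nat.zero_le (i : ℕ)) (by omega)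
    simp only [stepOK, Bool.or_eq_true] at h
    obtain ⟨t, ht, h⟩ : ∃ t : ℕ, (t = 1 ∨ t = 2) ∧ ∀ k < m,
        (dig (code i) k + 2 * (cn * G.bN (code i) (code (gen j)) % 3) * dig (code (gen j)) k) % 3 =
          t * dig (code (s j i)) k % 3 := by
      rcases h with h | h
      · exact ⟨1, Or.inl rfl, fun k hk => Nat.eq_of_beq_eq_true (forallFrom_elim h (Nat.zero_le k) (by omega))⟩
      · exact ⟨2, Or.inr rfl, fun k hk => Nat.eq_of_beq_eq_true (forallFrom_elim h (Nat.zero_le k) (by omega))⟩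
    have ht0 : (t : ZMod 3) ≠ 0 := by rcases ht with rfl | rfl <;> decide
    refine refl_congr _ _ ht0 ?_
    rw [refl_apply, (L.props (gen j).2).2.1, show G.vec (code i) = fun l => (dig (code i) (G.pos l) : ZMod 3) from rfl,
      show G.vec (code (gen j)) = fun l => (dig (code (gen j)) (G.pos l) : ZMod 3) from rfl, G.b_eq]
    funext l
    simp only [Pi.sub_apply, Pi.smul_apply, smul_eq_mul, vec, hσ]
    have h3 := cast_congr (h (G.pos l) (G.pos l).2)
    push_cast [ZMod.natCast_mod] at h3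
    rw [← h3]
    have hcn : (cn : ZMod 3)⁻¹ = cn := inv_eq_of_mul_eq_one_right (by rcases L.cn_val with rfl | rfl <;> decide)
    rw [hcn]
    have h33 : (3 : ZMod 3) = 0 := by decide
    linear_combination (-((cn : ZMod 3) * (G.bN (code i) (code (gen j)) : ZMod 3)) * (dig (code (gen j)) (G.pos l) : ZMod 3)) * h33

end Geo

/-- The reflections of a norm in the matrix group generate the same. -/
theorem reflectionSubgroup_map {n m : ℕ} (G : Geo (Fin n) m) {cn : ℕ} {code idx : ℕ → ℕ} {N : ℕ}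
    (L : G.Listed cn code idx N) :
    Nonempty (↥(Cfsg.reflectionSubgroup (⇑G.Q) (cn : ZMod 3)) ≃* ↥(Subgroup.closure (Set.range L.elt))) := by
  refine ⟨((oEquiv G.Q).subgroupMap _).trans (MulEquiv.subgroupCongr ?_)⟩
  show (Cfsg.reflectionSubgroup (⇑G.Q) (cn : ZMod 3)).map (oEquiv G.Q).toMonoidHom = _
  rw [Cfsg.reflectionSubgroup, MonoidHom.map_closure, L.range_eq]
  refine congrArg Subgroup.closure (Set.ext fun g => ?_)
  simp only [Set.mem_image, MulEquiv.coe_toMonoidHom, Set.mem_setOf_eq]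
  constructor
  · rintro ⟨x, hx, rfl⟩
    obtain ⟨v, hv0, hv, e⟩ := (CfsgLib.ThreeTrans.ReflectionsF3.mem_norm_iff L.ne_zero).1 hx
    exact ⟨v, hv0, hv, e⟩
  · rintro ⟨v, hv0, hv, rfl⟩
    exact ⟨(oEquiv G.Q).symm (refl hv0), (CfsgLib.ThreeTrans.ReflectionsF3.mem_norm_iff L.ne_zero).2
      ⟨v, hv0, hv, MulEquiv.apply_symm_apply _ _⟩, MulEquiv.apply_symm_apply _ _⟩

end CfsgLib.Recog.FiTypes
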