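import Cfsg.Agent.Lib.Recog.FiTypes.Points
import Cfsg.Agent.Lib.Recog.FiTypes.Forms
import Cfsg.Agent.Lib.Recog.FiTypes.Data24

set_option autoImplicit false
set_option maxRecDepth 20000
set_option Elab.async false

/-! Checks of the tables for type M(24) (owner: helper21). -/

namespace CfsgLib.Recog.FiTypes.Check24

open CfsgLib.Recog.BitPerm CfsgLib.Recog.FiTypes.Data24
open CfsgLib.Recog.FiThree (net zW)
open CfsgLib.ThreeTrans.CosetIndex (forallFrom forallFrom_elim)
open CfsgLib.Recog.FiFour.Aut (movedB)

theorem gens_len : gens.length = 9 := by decide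

theorem small : ∀ j < 9, gens.getD j 0 < 3240 := by decide

theorem bound : Nat.beq (Nat.shiftRight (allSet pts 3240) 31671) 0 = true := by decide +kernel

theorem distinct : distinctOK pts 3240 124 = true := by decide +kernel

theorem reach : reachOK gens sig par 3240 = true := by decide +kernel

theorem gen_ok : forallFrom (fun j => genOK (ws.getD j ([], 0)) (pts (gens.getD j 0))) 0 9 = true := by decide +kernel

theorem inv : forallFrom (fun j => invOK (sig j) 3240) 0 9 = true := by decide +kernel

theorem maps0 : mapsPts net (cword (ws.getD 0 ([], 0))) pts (sig 0) 3240 12 = true := by decide +kernel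

theorem maps1 : mapsPts net (cword (ws.getD 1 ([], 0))) pts (sig 1) 3240 12 = true := by decide +kernel

theorem maps2 : mapsPts net (cword (ws.getD 2 ([], 0))) pts (sig 2) 3240 12 = true := by decide +kernel

theorem maps3 : mapsPts net (cword (ws.getD 3 ([], 0))) pts (sig 3) 3240 12 = true := by decide +kernel

theorem maps4 : mapsPts net (cword (ws.getD 4 ([], 0))) pts (sig 4) 3240 12 = true := by decide +kernel

theorem maps5 : mapsPts net (cword (ws.getD 5 ([], 0))) pts (sig 5) 3240 12 = true := by decide +kernel

theorem maps6 : mapsPts net (cword (ws.getD 6 ([], 0))) pts (sig 6) 3240 12 = true := by decide +kernel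

theorem maps7 : mapsPts net (cword (ws.getD 7 ([], 0))) pts (sig 7) 3240 12 = true := by decide +kernel

theorem maps8 : mapsPts net (cword (ws.getD 8 ([], 0))) pts (sig 8) 3240 12 = true := by decide +kernel

theorem maps : ∀ j < 9, mapsPts net (cword (ws.getD j ([], 0))) pts (sig j) 3240 12 = true := by
  intro j hj
  interval_cases j
  · exact maps0
  · exact maps1
  · exact maps2
  · exact maps3
  · exact maps4
  · exact maps5
  · exact maps6
  · exact maps7
  · exact maps8

theorem ptList : PtList 3240 9 pts gens ws sig par where
  len := gens_len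
  small := small
  inv _ hj := forallFrom_elim inv (Nat.zero_le _) (by omega)
  bound := bound
  distinct := distinct
  size := by norm_num
  gen_ok _ hj := forallFrom_elim gen_ok (Nat.zero_le _) (by omega)
  maps := maps
  reach := reach

theorem norm_ok : normOK 8 (hypQ) 1 code idx 1080 = true := by decide +kernel

theorem cover_ok : coverOK 8 (hypQ) 1 code idx 1080 0 (3 ^ 8) = true := by decide +kernel

theorem steps_ok : forallFrom (fun j => gStepOK 8 (hypB) 1 code (sig j) (gens.getD j 0) 1080) 0 8 = true := by
  decide +kernel

/-- The words of the generators. -/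
def genWords : List (List ℕ) := ws.map cword

/-- A transposition outside. -/
def repOut : List ℕ × ℕ := ([7, 3, 4, 5, 6, 9, 2, 3, 7, 4, 5, 3, 4, 2, 3, 7, 6, 5, 4, 3, 2, 1], 0)

theorem rep_ok : genOK repOut 11 = true := by decide +kernel

theorem cover : Nat.beq (Nat.lor (orbitSet net genWords 11 4) (allSet pts 3240)) (2 ^ 31671 - 1) = true := by
  decide +kernel

end CfsgLib.Recog.FiTypes.Check24
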