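import Cfsg.Agent.Lib.Recog.FiTypes.ConjPerm
import Cfsg.Prelude.Def_FischerSpaces

set_option autoImplicit false

/-!
General facts used for the types M(22), M(23), M(24) (owner: helper21).
-/

namespace CfsgLib.Recog.FiTypes

open Cfsg

variable {G : Type*} [Group G]

/-- The members of `D` other than `x` commuting with `x`. -/
def nbS (D : Set G) (x : G) : Set G := {y : G | y ∈ D ∧ y ≠ x ∧ Commute x y}

/-- The image of a group modulo its centre. -/
abbrev CQ (H : Subgroup G) : Type _ := ↥H ⧸ Subgroup.center ↥H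

theorem cq_of_eq {A B : Subgroup G} (h : A = B) : Nonempty (CQ A ≃* CQ B) := by subst h; exact ⟨MulEquiv.refl _⟩

theorem map_center {H K : Type*} [Group H] [Group K] (e : H ≃* K) :
    (Subgroup.center H).map e.toMonoidHom = Subgroup.center K := by
  ext x
  rw [Subgroup.mem_map_equiv, Subgroup.mem_center_iff, Subgroup.mem_center_iff]
  constructor
  · intro h y
    apply e.symm.injective
    rw [map_mul, map_mul, h]
  · intro h y
    apply e.injective
    rw [map_mul, map_mul, e.apply_symm_apply, h]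

/-- Isomorphic groups have isomorphic central quotients. -/
noncomputable def cqCongr {H K : Type*} [Group H] [Group K] (e : H ≃* K) :
    H ⧸ Subgroup.center H ≃* K ⧸ Subgroup.center K :=
  QuotientGroup.congr _ _ e (map_center e)

/-- A frame seen through a homomorphism that keeps the listed elements apart. -/
theorem Frame.map {H : Type*} [Group H] {n k : ℕ} {e : Fin n → G} {gen : Fin k → Fin n}
    {σ : Fin k → Equiv.Perm (Fin n)} (F : Frame e gen σ) (φ : G →* H) (h : Function.Injective (φ ∘ e)) :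
    Frame (φ ∘ e) gen σ where
  inj := h
  conj j i := by simp only [Function.comp_apply, ← map_mul, ← map_inv, F.conj]

/-- A maximal centraliser gives a primitive class. -/
theorem primitive_of_maximal {a : G}
    (hmax : ∀ M : Subgroup G, Subgroup.centralizer {a} ≤ M → M = Subgroup.centralizer {a} ∨ M = ⊤)
    (htwo : ∃ g : G, g * a * g⁻¹ ≠ a) : IsPrimitiveUnderConj (conjugatesOf a) := by
  refine ⟨fun x hx y hy => ?_, ?_, fun B hB hblk => ?_⟩
  · exact isConj_iff.1 ((IsConj.symm hx).trans hy)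
  · obtain ⟨g, hg⟩ := htwo
    exact ⟨_, mem_conjugatesOf_self, _, isConj_iff.2 ⟨g, rfl⟩, Ne.symm hg⟩
  rw [or_iff_not_imp_left]
  intro hns
  obtain ⟨b, hb, b', hb', hne⟩ := Set.not_subsingleton_iff.1 hns
  obtain ⟨g₀, hg₀⟩ := isConj_iff.1 (hB hb)
  set B' : Set G := (fun x => g₀⁻¹ * x * g₀) '' B
  have haB : a ∈ B' := ⟨b, hb, by rw [← hg₀]; group⟩
  have hblk' : ∀ g : G, (∃ x ∈ B', g * x * g⁻¹ ∈ B') → (fun x => g * x * g⁻¹) '' B' = B' := by
    rintro g ⟨_, ⟨x, hx, rfl⟩, y, hy, hxy⟩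
    simp only at hxy
    rcases hblk (g₀ * g * g₀⁻¹) with h | h
    · conv_rhs => rw [show B' = (fun x => g₀⁻¹ * x * g₀) '' ((fun x => g₀ * g * g₀⁻¹ * x * (g₀ * g * g₀⁻¹)⁻¹) '' B)
        by rw [h]]
      simp only [B', Set.image_image]
      refine Set.image_congr fun z _ => ?_
      group
    · refine absurd (Set.disjoint_left.1 h ⟨x, hx, ?_⟩ hy) not_false
      have e : y = g₀ * (g * (g₀⁻¹ * x * g₀) * g⁻¹) * g₀⁻¹ := by rw [← hxy]; group
      rw [e]; group
  let S : Subgroup G :=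
    { carrier := {g | (fun x => g * x * g⁻¹) '' B' = B'}
      one_mem' := by simp
      mul_mem' := fun {g h} hg hh => by
        show (fun x => g * h * x * (g * h)⁻¹) '' B' = B'
        calc (fun x => g * h * x * (g * h)⁻¹) '' B' = (fun x => g * x * g⁻¹) '' ((fun x => h * x * h⁻¹) '' B') := by
              refine Eq.trans ?_ (Set.image_image (fun x => g * x * g⁻¹) (fun x => h * x * h⁻¹) B').symm
              exact Set.image_congr fun z _ => by group
          _ = B' := by rw [show (fun x => h * x * h⁻¹) '' B' = B' from hh]; exact hg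
      inv_mem' := fun {g} hg => by
        show (fun x => g⁻¹ * x * g⁻¹⁻¹) '' B' = B'
        conv_lhs => rw [← show (fun x => g * x * g⁻¹) '' B' = B' from hg, Set.image_image]
        rw [show (fun x => g⁻¹ * (g * x * g⁻¹) * g⁻¹⁻¹) = id from funext fun x => by simp [mul_assoc], Set.image_id] }
  have hle : Subgroup.centralizer {a} ≤ S := fun g hg => hblk' g ⟨a, haB, by
    rw [show g * a * g⁻¹ = a by
      rw [← Subgroup.mem_centralizer_iff.1 hg a rfl, mul_inv_cancel_right]]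
    exact haB⟩
  rcases hmax S hle with h | h
  · exfalso
    have hb2 : g₀⁻¹ * b' * g₀ ∈ B' := ⟨b', hb', rfl⟩
    have hne' : g₀⁻¹ * b' * g₀ ≠ a := fun e => hne (by rw [← hg₀, ← e]; group)
    obtain ⟨g, hg⟩ := isConj_iff.1 (hB hb')
    have hS : g₀⁻¹ * g ∈ S := hblk' _ ⟨a, haB, by
      rwa [show g₀⁻¹ * g * a * (g₀⁻¹ * g)⁻¹ = g₀⁻¹ * b' * g₀ by rw [← hg]; group]⟩
    rw [h] at hS
    refine hne' ?_
    calc g₀⁻¹ * b' * g₀ = g₀⁻¹ * g * a * (g₀⁻¹ * g)⁻¹ := by rw [← hg]; group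
      _ = a := by rw [← Subgroup.mem_centralizer_iff.1 hS a rfl, mul_inv_cancel_right]
  · refine Set.Subset.antisymm hB fun x hx => ?_
    obtain ⟨g, rfl⟩ := isConj_iff.1 hx
    have hS : g₀⁻¹ * g ∈ S := h ▸ Subgroup.mem_top _
    have hm : g₀⁻¹ * g * a * (g₀⁻¹ * g)⁻¹ ∈ B' := by
      rw [← show (fun x => g₀⁻¹ * g * x * (g₀⁻¹ * g)⁻¹) '' B' = B' from hS]; exact ⟨a, haB, rfl⟩
    obtain ⟨z, hz, e⟩ := hm
    simp only at e
    have : g * a * g⁻¹ = z := by
      calc g * a * g⁻¹ = g₀ * (g₀⁻¹ * g * a * (g₀⁻¹ * g)⁻¹) * g₀⁻¹ := by group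
        _ = _ := by rw [← e]; group
    rwa [this]

section Congr

variable {H : Type*} [Group H] (φ : G ≃* H) {D : Set G}

theorem nbS_image (x : G) : nbS (φ '' D) (φ x) = φ '' nbS D x := by
  ext y
  obtain ⟨z, rfl⟩ := φ.surjective y
  simp only [nbS, Set.mem_setOf_eq, φ.injective.mem_set_image, φ.injective.ne_iff]
  refine and_congr Iff.rfl (and_congr Iff.rfl ?_)
  exact ⟨fun h => by simpa using h.map φ.symm.toMonoidHom, fun h => h.map φ.toMonoidHom⟩

/-- The closure of a set and of its image. -/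
noncomputable def closureCongr (S : Set G) : ↥(Subgroup.closure S) ≃* ↥(Subgroup.closure (φ '' S)) :=
  (φ.subgroupMap _).trans (MulEquiv.subgroupCongr (MonoidHom.map_closure φ.toMonoidHom S))

theorem closureCongr_coe (S : Set G) (x : ↥(Subgroup.closure S)) : (closureCongr φ S x : H) = φ x := rfl

theorem pair_equiv (d c : G) : Nonempty (CQ (Subgroup.closure (nbS D d ∩ nbS D c)) ≃*
    CQ (Subgroup.closure (nbS (φ '' D) (φ d) ∩ nbS (φ '' D) (φ c)))) := by
  rw [nbS_image, nbS_image, ← Set.image_inter φ.injective]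
  exact ⟨cqCongr (closureCongr φ _)⟩

theorem type22_congr (h : IsOfTypeM22 G D) : IsOfTypeM22 H (φ '' D) := by
  obtain ⟨hZ, d, hd, c, hc, hdc, ⟨F, iF, iF', hF, ⟨e⟩⟩, c₃, hc₃, Q, hQ, hdet, ⟨e'⟩⟩ := h
  refine ⟨by rw [← map_center φ, hZ, Subgroup.map_bot], φ d, Set.mem_image_of_mem _ hd, φ c,
    Set.mem_image_of_mem _ hc, fun hcc => hdc (by simpa using hcc.map φ.symm.toMonoidHom),
    ⟨F, iF, iF', hF, ?_⟩, c₃, hc₃, Q, hQ, hdet, ?_⟩
  · change Nonempty (CQ (Subgroup.closure (nbS (φ '' D) (φ d))) ≃* _)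
    rw [nbS_image]
    exact ⟨(cqCongr (closureCongr φ (nbS D d))).symm.trans e⟩
  · obtain ⟨e2⟩ := pair_equiv φ (D := D) d c
    exact ⟨e2.symm.trans e'⟩

theorem type23_congr (h : IsOfTypeM23 G D) : IsOfTypeM23 H (φ '' D) := by
  obtain ⟨hZ, d, hd, c, hc, hdc, h22, c₃, hc₃, Q, hQ, hdet, ⟨e'⟩⟩ := h
  refine ⟨by rw [← map_center φ, hZ, Subgroup.map_bot], φ d, Set.mem_image_of_mem _ hd, φ c,
    Set.mem_image_of_mem _ hc, fun hcc => hdc (by simpa using hcc.map φ.symm.toMonoidHom), ?_, c₃, hc₃, Q, hQ, hdet, ?_⟩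
  · change IsOfTypeM22 (CQ (Subgroup.closure (nbS (φ '' D) (φ d))))
      ((QuotientGroup.mk : ↥(Subgroup.closure (nbS (φ '' D) (φ d))) → _) ''
        {x : ↥(Subgroup.closure (nbS (φ '' D) (φ d))) | (x : H) ∈ nbS (φ '' D) (φ d)})
    change IsOfTypeM22 (CQ (Subgroup.closure (nbS D d)))
      ((QuotientGroup.mk : ↥(Subgroup.closure (nbS D d)) → _) ''
        {x : ↥(Subgroup.closure (nbS D d)) | (x : G) ∈ nbS D d}) at h22
    rw [nbS_image]
    convert type22_congr (cqCongr (closureCongr φ (nbS D d))) h22 using 1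
    ext q
    constructor
    · rintro ⟨x, ⟨y, hy, hxy⟩, rfl⟩
      exact ⟨_, ⟨⟨y, Subgroup.subset_closure hy⟩, hy, rfl⟩, congrArg QuotientGroup.mk (Subtype.ext hxy)⟩
    · rintro ⟨_, ⟨y, hy, rfl⟩, rfl⟩
      exact ⟨closureCongr φ _ y, ⟨y, hy, rfl⟩, rfl⟩
  · obtain ⟨e2⟩ := pair_equiv φ (D := D) d c
    exact ⟨e2.symm.trans e'⟩

end Congr

end CfsgLib.Recog.FiTypes
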