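import Cfsg.Agent.Lib.Recog.FiTypes.Points
import Cfsg.Agent.Lib.Recog.FiTypes.TypeTools
import Cfsg.Agent.Lib.Recog.FiTypes.Refl
import Cfsg.Agent.Lib.Recog.FiFour.Aut.Moved

set_option autoImplicit false

/-!
Reading the moved-point checks; classes of 3-transpositions through isomorphisms (owner: helper21).
-/

namespace CfsgLib.Recog.FiTypes

open Cfsg CfsgLib.Recog.BitPerm
open CfsgLib.ThreeTrans.CosetIndex (forallFrom forallFrom_elim)

/-- A point outside the first set is in the second. -/
theorem testBit_of_cover {M A c T : ℕ} (h : Nat.beq (Nat.lor M A) T = true) (hT : T.testBit c = true)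
    (hM : M.testBit c = false) : A.testBit c = true := by
  have e := congrArg (fun X => X.testBit c) (Nat.eq_of_beq_eq_true h)
  change (M ||| A).testBit c = _ at e
  rwa [Nat.testBit_or, hM, Bool.false_or, hT] at e

theorem full_testBit (n : ℕ) {c : ℕ} (hc : c < n) : (2 ^ n - 1).testBit c = true := by
  rw [Nat.testBit_two_pow_sub_one, decide_eq_true hc]

/-- A point of the second set is outside the first. -/
theorem testBit_of_apart {M A c : ℕ} (h : Nat.beq (Nat.land M A) 0 = true) (hA : A.testBit c = true) :
    M.testBit c = false := by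
  have e := congrArg (fun X => X.testBit c) (Nat.eq_of_beq_eq_true h)
  change (M &&& A).testBit c = _ at e
  rwa [Nat.testBit_and, hA, Bool.and_true, Nat.zero_testBit] at e

theorem testBit_lor_false {a b c : ℕ} : (Nat.lor a b).testBit c = false ↔ a.testBit c = false ∧ b.testBit c = false := by
  change (a ||| b).testBit c = false ↔ _
  rw [Nat.testBit_or, Bool.or_eq_false_iff]

/-- A check of a range gives the checks of the single places. -/
theorem forallFrom_single {f : ℕ → Bool} {start len c : ℕ} (h : forallFrom f start len = true) (h1 : start ≤ c)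
    (h2 : c < start + len) : forallFrom f c 1 = true := by
  show (f (c + 0) && true) = true
  rw [Bool.and_true, Nat.add_zero]
  exact forallFrom_elim h h1 h2

variable {G H : Type*} [Group G] [Group H]

/-- A class of 3-transpositions through an isomorphism. -/
theorem class_congr (φ : G ≃* H) {D : Set G} (h : IsThreeTranspositionClass D) :
    IsThreeTranspositionClass (φ '' D) := by
  obtain ⟨⟨h1, h2⟩, ⟨d, hd, hD⟩, h3⟩ := h
  refine ⟨⟨?_, ?_⟩, ⟨φ d, Set.mem_image_of_mem _ hd, ?_⟩, ?_⟩
  · rintro _ ⟨x, hx, rfl⟩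
    rw [MulEquiv.orderOf_eq, h1 x hx]
  · rintro _ ⟨x, hx, rfl⟩ _ ⟨y, hy, rfl⟩
    rw [← map_mul, ← map_pow, ← map_pow, MulEquiv.map_eq_one_iff, MulEquiv.map_eq_one_iff]
    exact h2 x hx y hy
  · ext y
    obtain ⟨x, rfl⟩ := φ.surjective y
    rw [φ.injective.mem_set_image, hD]
    show IsConj d x ↔ IsConj (φ d) (φ x)
    simp only [isConj_iff]
    constructor
    · rintro ⟨g, rfl⟩
      exact ⟨φ g, by rw [map_mul, map_mul, map_inv]⟩
    · rintro ⟨g, hg⟩
      obtain ⟨g, rfl⟩ := φ.surjective g
      exact ⟨g, φ.injective (by rw [map_mul, map_mul, map_inv]; exact hg)⟩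
  · rw [← Subgroup.map_top_of_surjective φ.toMonoidHom φ.surjective, ← h3, MonoidHom.map_closure]
    rfl

end CfsgLib.Recog.FiTypes
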