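import Cfsg.Agent.Lib.Recog.FiTypes.Points
import Cfsg.Agent.Lib.Recog.FiTypes.Forms
import Cfsg.Agent.Lib.Recog.FiTypes.Data22

set_option autoImplicit false
set_option maxRecDepth 20000
set_option Elab.async false

/-! Checks of the tables for type M(22) (owner: helper21). -/

namespace CfsgLib.Recog.FiTypes.Check22

open CfsgLib.Recog.BitPerm CfsgLib.Recog.FiTypes.Data22
open CfsgLib.Recog.FiThree (net zW)
open CfsgLib.ThreeTrans.CosetIndex (forallFrom forallFrom_elim)
open CfsgLib.Recog.FiFour.Aut (movedB)

theorem gens_len : gens.length = 6 := by decide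

theorem small : ∀ j < 6, gens.getD j 0 < 126 := by decide

theorem bound : Nat.beq (Nat.shiftRight (allSet pts 126) 31671) 0 = true := by decide +kernel

theorem distinct : distinctOK pts 126 124 = true := by decide +kernel

theorem reach : reachOK gens sig par 126 = true := by decide +kernel

theorem gen_ok : forallFrom (fun j => genOK (ws.getD j ([], 0)) (pts (gens.getD j 0))) 0 6 = true := by decide +kernel

theorem inv : forallFrom (fun j => invOK (sig j) 126) 0 6 = true := by decide +kernel

theorem maps0 : mapsPts net (cword (ws.getD 0 ([], 0))) pts (sig 0) 126 12 = true := by decide +kernel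

theorem maps1 : mapsPts net (cword (ws.getD 1 ([], 0))) pts (sig 1) 126 12 = true := by decide +kernel

theorem maps2 : mapsPts net (cword (ws.getD 2 ([], 0))) pts (sig 2) 126 12 = true := by decide +kernel

theorem maps3 : mapsPts net (cword (ws.getD 3 ([], 0))) pts (sig 3) 126 12 = true := by decide +kernel

theorem maps4 : mapsPts net (cword (ws.getD 4 ([], 0))) pts (sig 4) 126 12 = true := by decide +kernel

theorem maps5 : mapsPts net (cword (ws.getD 5 ([], 0))) pts (sig 5) 126 12 = true := by decide +kernel

theorem maps : ∀ j < 6, mapsPts net (cword (ws.getD j ([], 0))) pts (sig j) 126 12 = true := by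
  intro j hj
  interval_cases j
  · exact maps0
  · exact maps1
  · exact maps2
  · exact maps3
  · exact maps4
  · exact maps5

theorem ptList : PtList 126 6 pts gens ws sig par where
  len := gens_len
  small := small
  inv _ hj := forallFrom_elim inv (Nat.zero_le _) (by omega)
  bound := bound
  distinct := distinct
  size := by norm_num
  gen_ok _ hj := forallFrom_elim gen_ok (Nat.zero_le _) (by omega)
  maps := maps
  reach := reach

theorem norm_ok : normOK 6 (sumSq 6) 1 code idx 126 = true := by decide +kernel

theorem cover_ok : coverOK 6 (sumSq 6) 1 code idx 126 0 (3 ^ 6) = true := by decide +kernel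

theorem steps_ok : forallFrom (fun j => gStepOK 6 (sumMul 6) 1 code (sig j) (gens.getD j 0) 126) 0 6 = true := by
  decide +kernel

theorem cover : Nat.beq (Nat.lor (Nat.lor (Nat.lor (movedB 15 net zW) (movedB 15 net [0])) (movedB 15 net [1]))
    (Nat.lor (allSet pts 126) 1)) (2 ^ 31671 - 1) = true := by decide +kernel

theorem apart : Nat.beq (Nat.land (Nat.lor (Nat.lor (movedB 15 net zW) (movedB 15 net [0])) (movedB 15 net [1]))
    (allSet pts 126)) 0 = true := by decide +kernel

theorem not_zero : (allSet pts 126).testBit 0 = false := by decide +kernel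

end CfsgLib.Recog.FiTypes.Check22
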