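import Cfsg.Agent.Lib.Recog.FiTypes.Cover22
import Cfsg.Agent.Lib.Recog.FiTypes.Check22
import Cfsg.Agent.Lib.Recog.FiTypes.ListTools
import Cfsg.Agent.Lib.Recog.FiThree.Aut.Main

set_option autoImplicit false
set_option maxRecDepth 20000
set_option linter.style.haveILetI false

/-!
The quotient of the stabiliser in Fi23 is a group of type M(22) (owner: helper21).
-/

namespace CfsgLib.Recog.FiTypes

open Cfsg CfsgLib.Recog.BitPerm CfsgLib.Recog.FiThree CfsgLib.Recog.SporBound
open CfsgLib.Recog.FiFour.Aut (movedB not_movedB fix_of_not_movedB)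

attribute [local instance] FiThree.finite_fi23'

theorem quotEquiv_a : Aut.quotEquiv (Fi22Group.a 0) = a22 := by
  rw [← Aut.proj_gg (show (0 : ℕ) ∈ hLetters by decide), Aut.proj, MonoidHom.comp_apply,
    MulEquiv.coe_toMonoidHom, MulEquiv.apply_symm_apply]
  rfl

theorem quotEquiv_class : Aut.quotEquiv '' conjugatesOf (Fi22Group.a 0) = D22 := by
  rw [D22_eq, ← quotEquiv_a]
  ext y
  obtain ⟨x, rfl⟩ := Aut.quotEquiv.surjective y
  rw [Aut.quotEquiv.injective.mem_set_image]
  show IsConj _ x ↔ IsConj (Aut.quotEquiv _) (Aut.quotEquiv x)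
  simp only [isConj_iff]
  constructor
  · rintro ⟨g, rfl⟩
    exact ⟨Aut.quotEquiv g, by rw [map_mul, map_mul, map_inv]⟩
  · rintro ⟨g, hg⟩
    obtain ⟨g, rfl⟩ := Aut.quotEquiv.surjective g
    exact ⟨g, Aut.quotEquiv.injective (by rw [map_mul, map_mul, map_inv]; exact hg)⟩

theorem class22 : IsThreeTranspositionClass D22 := by
  rw [← quotEquiv_class]
  exact class_congr _ Fi22U6.realization.1

theorem center22 : Subgroup.center Q22 = ⊥ := by
  haveI : IsSimpleGroup Q22 := isSimple_quot
  refine ((inferInstance : (Subgroup.center Q22).Normal).eq_bot_or_eq_top).resolve_right fun h => ?_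
  obtain ⟨htr, ⟨a, ha, b, hb, hne⟩, -⟩ := primitive22
  obtain ⟨g, hg⟩ := htr a ha b hb
  refine hne ?_
  rw [← hg, Subgroup.mem_center_iff.1 (h ▸ Subgroup.mem_top a : a ∈ Subgroup.center Q22) g, mul_inv_cancel_right]

theorem double_cover22 : IsNonsplitDoubleCover (Subgroup.centralizer ({a22} : Set Q22)) (PSU 6 Fi22U6.F4 2) := by
  haveI := Fi22Group.finite_fi22
  have hmap : (Subgroup.centralizer ({Fi22Group.a 0} : Set Spor.Fi22)).map Aut.quotEquiv.toMonoidHom =
      Subgroup.centralizer ({a22} : Set Q22) := by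
    ext z
    rw [Subgroup.mem_map_equiv, Subgroup.mem_centralizer_singleton_iff, Subgroup.mem_centralizer_singleton_iff,
      ← Aut.quotEquiv.symm.injective.eq_iff (a := z * a22), map_mul, map_mul, ← quotEquiv_a,
      MulEquiv.symm_apply_apply]
  exact Fi22U6.double_cover_of_equiv
    (((Subgroup.centralizer _).equivMapOfInjective _ Aut.quotEquiv.injective).trans (MulEquiv.subgroupCongr hmap))
    (Fi22U6.realization.2.2 _ mem_conjugatesOf_self)

theorem lp_moved : mapsOK net [1] (lp 0) 9592 = true := by decide +kernel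

theorem gg01 : ¬ Commute (gg 1) (gg 0) := by
  intro h
  rw [gg_eq_tr (show 0 < 10 by omega), commute_tr (lp_lt (by omega)), ← word_singleton, act_word,
    wordPerm_maps acts.valid lp_moved] at h
  exact absurd h (by decide +kernel)

theorem gg02 : mapsOK net [2] (lp 0) (lp 0) = true := by decide +kernel

theorem lp02 : Nat.beq (lp 2) (lp 0) = false := by decide +kernel

theorem closure_nb22 : Subgroup.closure (nbS D22 a22) = Subgroup.centralizer ({a22} : Set Q22) := by
  set C := Subgroup.centralizer ({a22} : Set Q22) with hC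
  set H := Subgroup.closure (nbS D22 a22) with hH
  have hdc := double_cover22
  obtain ⟨q⟩ := hdc.2.1
  have hle : H ≤ C := (Subgroup.closure_le _).2 fun y hy => Subgroup.mem_centralizer_singleton_iff.2 hy.2.2.eq.symm
  haveI : IsSimpleGroup (PSU 6 Fi22U6.F4 2) := FiM22.psu_simple
  haveI : Nontrivial (C ⧸ Subgroup.center C) := q.toEquiv.nontrivial
  haveI hsimple : IsSimpleGroup (C ⧸ Subgroup.center C) :=
    IsSimpleGroup.isSimpleGroup_of_surjective q.symm.toMonoidHom q.symm.surjective
  haveI hn : (H.subgroupOf C).Normal := ⟨fun x hx c => by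
    rw [Subgroup.mem_subgroupOf] at hx ⊢
    have hc : (c : Q22) * a22 * (c : Q22)⁻¹ = a22 := by
      rw [Subgroup.mem_centralizer_singleton_iff.1 c.2, mul_inv_cancel_right]
    have him : (MulAut.conj (c : Q22)) '' D22 = D22 := by
      rw [D22_eq]
      ext y
      constructor
      · rintro ⟨z, hz, rfl⟩
        exact hz.trans (isConj_iff.2 ⟨c, rfl⟩)
      · exact fun hy => ⟨(MulAut.conj (c : Q22)).symm y,
          hy.trans (isConj_iff.2 ⟨(c : Q22)⁻¹, by simp⟩), MulEquiv.apply_symm_apply _ _⟩
    have hnb := nbS_image (MulAut.conj (c : Q22)) (D := D22) a22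
    rw [him, MulAut.conj_apply, hc] at hnb
    have hm : H.map (MulAut.conj (c : Q22)).toMonoidHom = H := by
      rw [hH, MonoidHom.map_closure]; exact congrArg _ hnb.symm
    rw [← hm]
    exact ⟨_, hx, rfl⟩⟩
  refine le_antisymm hle ?_
  have hmk := QuotientGroup.mk'_surjective (Subgroup.center C)
  rcases (hn.map _ hmk).eq_bot_or_eq_top with h | h
  · exfalso
    have hg2 : Commute (gg 2) (gg 0) := by
      rw [gg_eq_tr (show 0 < 10 by omega), commute_tr (lp_lt (by omega)), ← word_singleton]
      exact act_maps gg02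
    have h2 : (2 : ℕ) ∈ hLetters := by decide
    have h0 : (0 : ℕ) ∈ hLetters := by decide
    set y : Q22 := q22 ⟨gg 2, gg_mem_h h2⟩ with hy
    have hyne : y ≠ a22 := fun e => by
      have e' := congrArg Subtype.val (q22_inj (gg_mem_nb h2) (gg_mem_nb h0) e)
      simp only [gg_eq_tr (show 0 < 10 by omega), gg_eq_tr (show 2 < 10 by omega)] at e'
      exact Nat.ne_of_beq_eq_false lp02 (tr_inj (lp_lt (by omega)) (lp_lt (by omega)) e')
    have hymem : y ∈ nbS D22 a22 :=
      ⟨⟨_, gg_mem_nb h2, rfl⟩, hyne, ((commute_q22 (gg_mem_nb h2) (gg_mem_nb h0)).2 hg2).symm⟩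
    have hz : (⟨y, hle (Subgroup.subset_closure hymem)⟩ : C) ∈ Subgroup.center C := by
      refine (QuotientGroup.eq_one_iff _).1 (Subgroup.mem_bot.1 (h ▸ Subgroup.mem_map_of_mem _ ?_))
      exact Subgroup.mem_subgroupOf.2 (Subgroup.subset_closure hymem)
    have haC : a22 ∈ C := Subgroup.mem_centralizer_singleton_iff.2 rfl
    have haz : (⟨a22, haC⟩ : C) ∈ Subgroup.center C := Subgroup.mem_center_iff.2 fun c =>
      Subtype.ext (Subgroup.mem_centralizer_singleton_iff.1 c.2)
    obtain ⟨w, -, hw⟩ := (Nat.card_eq_two_iff' (1 : Subgroup.center C)).1 hdc.1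
    have hord := class22.1.1
    have e1 := hw ⟨_, hz⟩ fun e => by
      have e' : y = 1 := congrArg (fun x : Subgroup.center C => ((x : C) : Q22)) e
      have := hord y hymem.1
      rw [e', orderOf_one] at this
      omega
    have e2 := hw ⟨_, haz⟩ fun e => by
      have e' : a22 = 1 := congrArg (fun x : Subgroup.center C => ((x : C) : Q22)) e
      have := hord a22 (D22_eq ▸ mem_conjugatesOf_self)
      rw [e', orderOf_one] at this
      omega
    exact hyne (congrArg (fun x : Subgroup.center C => ((x : C) : Q22)) (e1.trans e2.symm))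
  · refine Subgroup.subgroupOf_eq_top.1 (FiM22.supplement_eq_top hdc ?_)
    have h1 := congrArg (Subgroup.comap (QuotientGroup.mk' (Subgroup.center C))) h
    rwa [Subgroup.comap_top, Subgroup.comap_map_eq, QuotientGroup.ker_mk'] at h1

/-- The common neighbours, inside the stabiliser. -/
theorem pts22_mem (i : Fin 126) : PtList.elt Data22.pts 126 i ∈ hSub ∧
    act zz (Data22.pts i) = Data22.pts i ∧ act (gg 0) (Data22.pts i) = Data22.pts i ∧
    act (gg 1) (Data22.pts i) = Data22.pts i := by
  have hA : (allSet Data22.pts 126).testBit (Data22.pts i) = true := mem_allSet.2 ⟨i, i.2, rfl⟩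
  have hlt : Data22.pts i < 31671 := Check22.ptList.lt i.2
  have h := testBit_of_apart Check22.apart hA
  rw [testBit_lor_false, testBit_lor_false] at h
  have fix : ∀ {w : List ℕ}, (movedB 15 net w).testBit (Data22.pts i) = false →
      act (word w) (Data22.pts i) = Data22.pts i := fun hw => by
    rw [act_word]; exact fix_of_not_movedB acts.valid (hlt.trans (by norm_num)) hw
  have h0 := fix h.1.2
  have h1 := fix h.2
  rw [word_singleton] at h0 h1
  refine ⟨?_, fix h.1.1, h0, h1⟩
  rw [← centralizer_zz]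
  exact Subgroup.mem_centralizer_iff.2 fun y hy => by
    rw [Set.mem_singleton_iff.1 hy]
    exact ((commute_tr hlt).2 (fix h.1.1)).eq

/-- The common neighbours as members of the stabiliser. -/
noncomputable def e22 (i : Fin 126) : ↥hSub := ⟨PtList.elt Data22.pts 126 i, (pts22_mem i).1⟩

theorem e22_mem (i : Fin 126) : e22 i ∈ nbH := by
  refine ⟨tr_mem (Check22.ptList.lt i.2), fun e => ?_, (commute_tr (Check22.ptList.lt i.2)).2 (pts22_mem i).2.1⟩
  rw [← tr_zero] at e
  have h := mem_allSet.2 ⟨(i : ℕ), i.2, tr_inj (Check22.ptList.lt i.2) (by omega) e⟩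
  exact Bool.noConfusion (h.symm.trans Check22.not_zero)

/-- The transposition of the second letter in the quotient. -/
noncomputable def c22 : Q22 := q22 ⟨gg 1, gg_mem_h (by decide)⟩

theorem common22 : nbS D22 a22 ∩ nbS D22 c22 = Set.range (q22 ∘ e22) := by
  have h0 : (0 : ℕ) ∈ hLetters := by decide
  have h1 : (1 : ℕ) ∈ hLetters := by decide
  ext x
  constructor
  · rintro ⟨⟨⟨d, hd, rfl⟩, -, hc0⟩, -, -, hc1⟩
    obtain ⟨c, hc, -, hcd⟩ := mem_nb_iff.1 hd
    have k0 : Commute (gg 0) (tr c) := by rw [hcd]; exact (commute_q22 (gg_mem_nb h0) hd).1 hc0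
    have k1 : Commute (gg 1) (tr c) := by rw [hcd]; exact (commute_q22 (gg_mem_nb h1) hd).1 hc1
    have kz : Commute zz (tr c) := by rw [hcd]; exact hd.2.2
    rw [commute_tr hc, ← word_singleton] at k0 k1
    rw [commute_tr hc] at kz
    simp only [act_word] at k0 k1 kz
    have hM : (Nat.lor (Nat.lor (movedB 15 net zW) (movedB 15 net [0])) (movedB 15 net [1])).testBit c = false :=
      testBit_lor_false.2 ⟨testBit_lor_false.2 ⟨not_movedB acts.valid kz, not_movedB acts.valid k0⟩,
        not_movedB acts.valid k1⟩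
    have h := @testBit_of_cover _ _ c _ Check22.cover (@full_testBit 31671 c hc) hM
    change (allSet Data22.pts 126 ||| 1).testBit c = true at h
    rw [Nat.testBit_or, Bool.or_eq_true] at h
    rcases h with h | h
    · obtain ⟨i, hi, e⟩ := mem_allSet.1 h
      refine ⟨⟨i, hi⟩, congrArg q22 (Subtype.ext ?_)⟩
      show tr (Data22.pts i) = _
      rw [e]; exact hcd
    · exfalso
      refine hd.2.1 ?_
      cases c with
      | zero => rw [← hcd, tr_zero]
      | succ k =>
        rw [Nat.testBit_succ, show (1 : ℕ) / 2 = 0 from rfl, Nat.zero_testBit] at h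
        exact Bool.noConfusion h
  · rintro ⟨i, rfl⟩
    have hlt : Data22.pts i < 31671 := Check22.ptList.lt i.2
    obtain ⟨-, -, f0, f1⟩ := pts22_mem i
    have k0 : Commute (gg 0) (e22 i : Spor.Fi23) := (commute_tr hlt).2 f0
    have k1 : Commute (gg 1) (e22 i : Spor.Fi23) := (commute_tr hlt).2 f1
    refine ⟨⟨⟨_, e22_mem i, rfl⟩, fun e => gg01 ?_, (commute_q22 (gg_mem_nb h0) (e22_mem i)).2 k0⟩,
      ⟨_, e22_mem i, rfl⟩, fun e => gg01 ?_, (commute_q22 (gg_mem_nb h1) (e22_mem i)).2 k1⟩
    · rw [q22_inj (e22_mem i) (gg_mem_nb h0) e] at k1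
      exact k1
    · rw [q22_inj (e22_mem i) (gg_mem_nb h1) e] at k0
      exact k0.symm

theorem frame22 : Frame (q22 ∘ e22) Check22.ptList.gen Check22.ptList.perm := by
  have F := Check22.ptList.frame
  have F' : Frame e22 Check22.ptList.gen Check22.ptList.perm :=
    ⟨fun i i' h => F.inj (congrArg Subtype.val h), fun j i => Subtype.ext (F.conj j i)⟩
  exact F'.map q22 fun i i' h => F'.inj (q22_inj (e22_mem i) (e22_mem i') h)

theorem listed22 : (sqGeo 6).Listed 1 Data22.code Data22.idx 126 where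
  cn_val := Or.inl rfl
  norm := Check22.norm_ok
  cover c hc := forallFrom_single Check22.cover_ok (Nat.zero_le c) (by omega)

theorem pair22 : IsProjReflectionGroupModThree (CQ (Subgroup.closure (nbS D22 a22 ∩ nbS D22 c22))) 6 1
    ((1 : ℕ) : ZMod 3) := by
  refine ⟨sqForm 6, sqForm_nondeg 6, by rw [sqForm_det]; decide, ?_⟩
  obtain ⟨e0⟩ := cq_of_eq (congrArg Subgroup.closure common22)
  obtain ⟨e1⟩ := frame22.equiv_perm Check22.ptList.reached
  have F := listed22.frame (gen := Check22.ptList.gen) (σ := Check22.ptList.perm) (s := Data22.sig)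
    (fun j i => rfl) fun j =>
      CfsgLib.ThreeTrans.CosetIndex.forallFrom_elim Check22.steps_ok (Nat.zero_le (j : ℕ)) (by omega)
  obtain ⟨e2⟩ := F.equiv_perm Check22.ptList.reached
  obtain ⟨e3⟩ := reflectionSubgroup_map (sqGeo 6) listed22
  exact ⟨e0.trans (e1.trans (e2.symm.trans (cqCongr e3).symm))⟩

/-- **The quotient is of type M(22).** -/
theorem type22 : IsOfTypeM22 Q22 D22 := by
  refine ⟨center22, a22, D22_eq ▸ mem_conjugatesOf_self, c22, ⟨_, gg_mem_nb (x := 1) (by decide), rfl⟩, fun h => gg01 ?_,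
    ⟨Fi22U6.F4, inferInstance, inferInstance, Fi22U6.F4.card, ?_⟩, ((1 : ℕ) : ZMod 3), by decide, pair22⟩
  · exact ((commute_q22 (gg_mem_nb (x := 0) (by decide)) (gg_mem_nb (x := 1) (by decide))).1 h).symm
  · obtain ⟨e⟩ := cq_of_eq closure_nb22
    obtain ⟨q⟩ := double_cover22.2.1
    exact ⟨e.trans q⟩

end CfsgLib.Recog.FiTypes
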