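import Cfsg.Agent.Lib.Recog.FiTypes.Check24
import Cfsg.Agent.Lib.Recog.FiFour.CheckPoints

set_option autoImplicit false
set_option maxRecDepth 20000
set_option Elab.async false

/-! The small checks of the permutations on 3240 points and of the letters of Fi24 (owner: helper21). -/

namespace CfsgLib.Recog.FiTypes.Check24

open CfsgLib.Recog.BitPerm CfsgLib.Recog.FiTypes.Data24
open CfsgLib.ThreeTrans.CosetIndex (forallFrom forallFrom_elim)

/-- The image of a point under a word of tables, the last letter first. -/
noncomputable def onPt (w : List ℕ) (i : ℕ) : ℕ := w.foldr (fun j x => Data24.sig j x) i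

theorem reach8 : reachOK (gens.take 8) sig par 1080 = true := by decide +kernel

theorem inv8 : forallFrom (fun j => invOK (sig j) 1080) 0 8 = true := by decide +kernel

theorem small8 : ∀ j < 8, gens.getD j 0 < 1080 := by decide

theorem cls_low : forallFrom (fun j => forallFrom (fun i =>
    Nat.beq (sig j i / 1080) (([0, 2, 1] : List ℕ).getD (i / 1080) 0)) 0 3240) 0 8 = true := by decide +kernel

theorem cls_top : forallFrom (fun i =>
    Nat.beq (sig 8 i / 1080) (([1, 0, 2] : List ℕ).getD (i / 1080) 0)) 0 3240 = true := by decide +kernel

theorem braid_pt : Nat.beq (sig 0 2160) (sig 8 (gens.getD 0 0)) = true := by decide +kernel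

theorem fix_only : forallFrom (fun i => Nat.beq i 2160 ||
    !(fixWords.all fun w => Nat.beq (onPt w i) i)) 2160 1080 = true := by decide +kernel

theorem fix_self : (fixWords.all fun w => Nat.beq (onPt w 2160) 2160) = true := by decide +kernel

theorem fix_small : (fixWords.all fun w => w.all (· < 8)) = true := by decide

theorem two_differ : forallFrom (fun i => Nat.beq (sig 0 i) (sig 1 i)) 0 1080 = false := by decide +kernel

theorem norm_rel : forallFrom (fun b => gens.all fun i =>
    Nat.beq (sig 8 (sig 0 (sig (b + 1) (sig 8 i)))) (onPt (normWords.getD b []) i)) 0 7 = true := by decide +kernel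

theorem norm_even : forallFrom (fun b => (normWords.getD b []).all (· < 8) &&
    Nat.beq ((normWords.getD b []).length % 2) 0) 0 7 = true := by decide +kernel

theorem gen_fix : (ws.all fun p => mapsOK FiFour.net (cword p) 3 3 && (p.1.all (· < 10) && Nat.blt p.2 10)) = true := by
  decide +kernel

theorem rep_move : mapsOK FiFour.net (cword repOut) 1 258163 = true := by decide +kernel

end CfsgLib.Recog.FiTypes.Check24
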