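import Mathlib.GroupTheory.QuotientGroup.Basic
import Mathlib.GroupTheory.Perm.Fin

set_option autoImplicit false

/-!
A group generated by a finite set of elements permuted by conjugation: modulo its centre it is the group
generated by the permutations of the generators (owner: helper21).
-/

namespace CfsgLib.Recog.FiTypes

variable {G : Type*} [Group G] {n k : ℕ}

/-- Every point is reached from the generators. -/
def Reach (gen : Fin k → Fin n) (σ : Fin k → Equiv.Perm (Fin n)) : Prop :=
  ∀ P : Fin n → Prop, (∀ j, P (gen j)) → (∀ j i, P i → P (σ j i)) → ∀ i, P i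

/-- Listed elements with the permutations of the generators among them. -/
structure Frame (e : Fin n → G) (gen : Fin k → Fin n) (σ : Fin k → Equiv.Perm (Fin n)) : Prop where
  inj : Function.Injective e
  conj : ∀ j i, e (gen j) * e i * (e (gen j))⁻¹ = e (σ j i)

section Hom

variable {e : Fin n → G} (hinj : Function.Injective e) {H : Subgroup G}
  (hH : ∀ x ∈ H, ∀ i, ∃ i', x * e i * x⁻¹ = e i')

/-- The image of a listed element under conjugation. -/
noncomputable def conjFun (x : H) (i : Fin n) : Fin n := (hH x x.2 i).choose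

theorem conjFun_spec (x : H) (i : Fin n) : (x : G) * e i * (x : G)⁻¹ = e (conjFun hH x i) :=
  (hH x x.2 i).choose_spec

/-- The permutation of the listed elements under conjugation. -/
noncomputable def conjHom : H →* Equiv.Perm (Fin n) where
  toFun x := Equiv.ofBijective (conjFun hH x) (Finite.injective_iff_bijective.1 fun i i' h => hinj (by
    have h1 := conjFun_spec hH x i
    rw [h, ← conjFun_spec hH x i'] at h1
    exact mul_left_cancel (mul_right_cancel h1)))
  map_one' := Equiv.ext fun i => hinj (by
    show e (conjFun hH 1 i) = e i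
    rw [← conjFun_spec (e := e), OneMemClass.coe_one, one_mul, inv_one, mul_one])
  map_mul' x y := Equiv.ext fun i => hinj (by
    show e (conjFun hH (x * y) i) = e (conjFun hH x (conjFun hH y i))
    rw [← conjFun_spec (e := e), ← conjFun_spec (e := e), ← conjFun_spec (e := e), Subgroup.coe_mul]
    group)

theorem conjHom_spec (x : H) (i : Fin n) : e (conjHom hinj hH x i) = (x : G) * e i * (x : G)⁻¹ :=
  (conjFun_spec hH x i).symm

theorem conjHom_eq {x : H} {p : Equiv.Perm (Fin n)} (h : ∀ i, (x : G) * e i * (x : G)⁻¹ = e (p i)) :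
    conjHom hinj hH x = p :=
  Equiv.ext fun i => hinj (by rw [conjHom_spec (e := e), h])

theorem mem_ker_iff {x : H} : x ∈ (conjHom hinj hH).ker ↔ ∀ i, (x : G) * e i = e i * x := by
  rw [MonoidHom.mem_ker, Equiv.ext_iff]
  refine forall_congr' fun i => ?_
  rw [Equiv.Perm.coe_one, id_eq, ← hinj.eq_iff, conjHom_spec (e := e), mul_inv_eq_iff_eq_mul]

end Hom

namespace Frame

/-- A listed element as a member. -/
def elt (e : Fin n → G) (i : Fin n) : ↥(Subgroup.closure (Set.range e)) := ⟨e i, Subgroup.subset_closure ⟨i, rfl⟩⟩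

variable {e : Fin n → G} {gen : Fin k → Fin n} {σ : Fin k → Equiv.Perm (Fin n)}
  (F : Frame e gen σ) (hr : Reach gen σ)
include F hr

theorem closure_eq : Subgroup.closure (Set.range e) = Subgroup.closure (Set.range (e ∘ gen)) := by
  refine le_antisymm ((Subgroup.closure_le _).2 ?_) (Subgroup.closure_mono (Set.range_comp_subset_range gen e))
  rintro _ ⟨i, rfl⟩
  refine hr (fun i => e i ∈ Subgroup.closure (Set.range (e ∘ gen)))
    (fun j => Subgroup.subset_closure ⟨j, rfl⟩) (fun j i hi => ?_) i
  rw [← F.conj]
  exact mul_mem (mul_mem (Subgroup.subset_closure ⟨j, rfl⟩) hi) (inv_mem (Subgroup.subset_closure ⟨j, rfl⟩))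

theorem invariant : ∀ x ∈ Subgroup.closure (Set.range e), ∀ i, ∃ i', x * e i * x⁻¹ = e i' := by
  intro x hx
  rw [F.closure_eq hr] at hx
  have hmain : ∃ p : Equiv.Perm (Fin n), ∀ i, x * e i * x⁻¹ = e (p i) := by
    induction hx using Subgroup.closure_induction with
    | mem y hy => obtain ⟨j, rfl⟩ := hy; exact ⟨σ j, F.conj j⟩
    | one => exact ⟨1, fun i => by simp⟩
    | mul x y _ _ hx hy =>
      obtain ⟨p, hp⟩ := hx
      obtain ⟨q, hq⟩ := hy
      refine ⟨p * q, fun i => ?_⟩
      rw [Equiv.Perm.mul_apply, ← hp, ← hq]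
      group
    | inv x _ hx =>
      obtain ⟨p, hp⟩ := hx
      refine ⟨p⁻¹, fun i => ?_⟩
      conv_lhs => rw [show i = p (p⁻¹ i) by simp, ← hp]
      group
  intro i
  exact ⟨_, hmain.choose_spec i⟩

/-- The conjugation action. -/
noncomputable def hom : ↥(Subgroup.closure (Set.range e)) →* Equiv.Perm (Fin n) :=
  conjHom F.inj (F.invariant hr)

theorem hom_gen (j : Fin k) : F.hom hr (elt e (gen j)) = σ j := conjHom_eq _ _ (F.conj j)

theorem hom_spec (x : ↥(Subgroup.closure (Set.range e))) (i : Fin n) :
    e (F.hom hr x i) = (x : G) * e i * (x : G)⁻¹ := conjHom_spec _ _ x i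

theorem ker_eq : (F.hom hr).ker = Subgroup.center ↥(Subgroup.closure (Set.range e)) := by
  ext x
  rw [hom, mem_ker_iff, Subgroup.mem_center_iff]
  constructor
  · intro h g
    refine Subtype.ext ?_
    have hle : Subgroup.closure (Set.range e) ≤ Subgroup.centralizer {(x : G)} := by
      rw [Subgroup.closure_le]
      rintro _ ⟨i, rfl⟩
      exact Subgroup.mem_centralizer_iff.2 fun y hy => by rw [Set.mem_singleton_iff.1 hy]; exact h i
    exact (Subgroup.mem_centralizer_iff.1 (hle g.2) _ rfl).symm
  · intro h i
    exact (congrArg Subtype.val (h (elt e i))).symm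

theorem range_eq : (F.hom hr).range = Subgroup.closure (Set.range σ) := by
  have htop : Subgroup.closure (Set.range fun j => elt e (gen j)) = ⊤ := by
    refine Subgroup.map_injective (Subgroup.subtype_injective _) ?_
    rw [MonoidHom.map_closure, ← Set.range_comp, ← MonoidHom.range_eq_map, Subgroup.range_subtype]
    exact (F.closure_eq hr).symm
  rw [MonoidHom.range_eq_map, ← htop, MonoidHom.map_closure, ← Set.range_comp]
  exact congrArg (fun f => Subgroup.closure (Set.range f)) (funext (F.hom_gen hr))

/-- **Modulo the centre: the permutation group.** -/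
theorem equiv_perm : Nonempty (↥(Subgroup.closure (Set.range e)) ⧸ Subgroup.center ↥(Subgroup.closure (Set.range e)) ≃*
    ↥(Subgroup.closure (Set.range σ))) :=
  ⟨(QuotientGroup.quotientMulEquivOfEq (F.ker_eq hr).symm).trans
    ((QuotientGroup.quotientKerEquivRange _).trans (MulEquiv.subgroupCongr (F.range_eq hr)))⟩

/-- Two permutations agreeing on the generators agree. -/
theorem eq_of_agree {p q : Equiv.Perm (Fin n)} (hp : p ∈ Subgroup.closure (Set.range σ))
    (hq : q ∈ Subgroup.closure (Set.range σ)) (h : ∀ j, p (gen j) = q (gen j)) : p = q := by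
  have hpq : q⁻¹ * p ∈ (F.hom hr).range := F.range_eq hr ▸ mul_mem (inv_mem hq) hp
  obtain ⟨x, hx⟩ := hpq
  have hfix : ∀ j, (x : G) * e (gen j) = e (gen j) * x := fun j => by
    have h1 := F.hom_spec hr x (gen j)
    rw [hx, Equiv.Perm.mul_apply, h j, Equiv.Perm.inv_def, Equiv.symm_apply_apply] at h1
    exact (mul_inv_eq_iff_eq_mul.1 h1.symm)
  have hc : x ∈ (F.hom hr).ker := by
    rw [F.ker_eq hr, Subgroup.mem_center_iff]
    intro g
    refine Subtype.ext ?_
    have hle : Subgroup.closure (Set.range e) ≤ Subgroup.centralizer {(x : G)} := by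
      refine (F.closure_eq hr).le.trans ((Subgroup.closure_le _).2 ?_)
      rintro _ ⟨j, rfl⟩
      exact Subgroup.mem_centralizer_iff.2 fun y hy => by rw [Set.mem_singleton_iff.1 hy]; exact hfix j
    exact (Subgroup.mem_centralizer_iff.1 (hle g.2) _ rfl).symm
  rw [MonoidHom.mem_ker, hx, inv_mul_eq_one] at hc
  exact hc.symm

end Frame

end CfsgLib.Recog.FiTypes
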