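import Cfsg.Agent.Lib.Recog.FiTypes.Points
import Cfsg.Agent.Lib.Recog.FiTypes.TypeTools
import Cfsg.Agent.Lib.Recog.FiThree.Cover
import Cfsg.Agent.Lib.Recog.FiM22.ReadOff

set_option autoImplicit false
set_option maxRecDepth 20000
set_option linter.style.haveILetI false

/-!
The stabiliser of a transposition of Fi23 modulo its centre with the images of the commuting transpositions
(owner: helper21).
-/

namespace CfsgLib.Recog.FiTypes

open Cfsg CfsgLib.Recog.BitPerm CfsgLib.Recog.FiThree CfsgLib.Recog.SporBound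
open CfsgLib.Recog.FiFour.Aut (movedB not_movedB fix_of_not_movedB)

attribute [local instance] FiThree.finite_fi23'

/-- The quotient. -/
abbrev Q22 : Type := ↥hSub ⧸ Subgroup.center ↥hSub

/-- The projection. -/
noncomputable abbrev q22 : ↥hSub →* Q22 := QuotientGroup.mk' (Subgroup.center ↥hSub)

/-- The neighbours of the central transposition inside its centraliser. -/
def nbH : Set ↥hSub := {h | (h : Spor.Fi23) ∈ nbS trans zz}

/-- Their images. -/
def D22 : Set Q22 := q22 '' nbH

/-- The moved points of a list of words. -/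
noncomputable def movedL (L : List (List ℕ)) : ℕ :=
  List.rec 0 (fun w _ D => Nat.lor D (movedB 15 net w)) L

theorem not_movedL : ∀ (L : List (List ℕ)) {c : ℕ}, (∀ w ∈ L, wordPerm net w c = c) →
    (movedL L).testBit c = false
  | [], c, _ => Nat.zero_testBit c
  | w :: L, c, h => by
    show (movedL L ||| movedB 15 net w).testBit c = false
    rw [Nat.testBit_or, not_movedL L fun v hv => h v (List.mem_cons_of_mem _ hv),
      not_movedB acts.valid (h w List.mem_cons_self)]
    rfl

theorem k_fixed : Nat.beq (Nat.lor (Nat.lor (movedL kWords) (Nat.shiftLeft 1 pA)) orb1)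
    (Nat.lor (movedL kWords) (Nat.shiftLeft 1 pA)) = true := by decide +kernel

theorem pZ_ne : Nat.beq pJ pZ = false := by decide +kernel

theorem pA_lt : Nat.blt pA 31671 = true := by decide +kernel

theorem pA_bound : pA < 31671 := Nat.le_of_ble_eq_true pA_lt

theorem tr_pA : tr pA = gg 0 := by
  rw [← pt_ga, tr_pt, ga_zz]

theorem tr_pJ : tr pJ = gg 9 := by
  rw [← pt_gj, tr_pt, gj_zz]

theorem zz_fix_orb1 {c : ℕ} (hc : orb1.testBit c = true) :
    ∃ h ∈ hSub, tr c = h * gg 0 * h⁻¹ := by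
  obtain ⟨h, hh, e⟩ := orb1_sub hc
  exact ⟨h, hh, by rw [← e, ← tr_conj h pA_bound, tr_pA]⟩

theorem mem_nb_iff {d : Spor.Fi23} : d ∈ nbS trans zz ↔ ∃ c < 31671, orb1.testBit c = true ∧ tr c = d := by
  constructor
  · rintro ⟨hd, hne, hcomm⟩
    obtain ⟨c, hc, rfl⟩ := exists_tr hd
    refine ⟨c, hc, ?_, rfl⟩
    rcases cover hc with rfl | h | h
    · exact absurd tr_zero hne
    · exact h
    exfalso
    obtain ⟨k, hk, e⟩ := orb2_sub h
    have hzk : k * zz * k⁻¹ = zz := by rw [zz_comm hk, mul_inv_cancel_right]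
    rw [← e, ← tr_conj k (show pJ < 31671 by rw [← pt_gj]; exact pt_lt _), ← hzk] at hcomm
    have h9 : Commute zz (tr pJ) := by
      have := hcomm.map (MulAut.conj k⁻¹).toMonoidHom
      simpa [mul_assoc] using this
    rw [commute_tr (show pJ < 31671 by rw [← pt_gj]; exact pt_lt _), show act zz pJ = pZ from act_maps z_maps] at h9
    exact Nat.ne_of_beq_eq_false pZ_ne h9.symm
  · rintro ⟨c, hc, horb, rfl⟩
    obtain ⟨h, hh, e⟩ := zz_fix_orb1 horb
    refine ⟨tr_mem hc, fun e0 => ?_, ?_⟩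
    · rw [← tr_zero] at e0
      have := tr_inj hc (by omega) e0
      subst this
      obtain ⟨k, hk, e1⟩ := orb1_sub horb
      have h0 : act k 0 = 0 := pt_h hk
      have : pA = 0 := (act k).injective (e1.trans h0.symm)
      exact absurd this (by decide)
    · rw [e]
      have hz : Commute zz h := (zz_comm hh).symm
      exact (hz.mul_right (zz_comm (gg_mem_h (by decide))).symm).mul_right hz.inv_right

theorem nb_mem_h {d : Spor.Fi23} (hd : d ∈ nbS trans zz) : d ∈ hSub := by
  rw [← centralizer_zz]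
  exact Subgroup.mem_centralizer_iff.2 fun y hy => by rw [Set.mem_singleton_iff.1 hy]; exact hd.2.2.eq

theorem gg_mem_nb {x : ℕ} (hx : x ∈ hLetters) : gg x ∈ nbS trans zz := by
  obtain ⟨g, e⟩ := gg_conj ((show ∀ y ∈ hLetters, y < 10 by decide) x hx)
  refine ⟨mem_trans.2 ⟨g, e⟩, fun e0 => ?_, (zz_comm (gg_mem_h hx)).symm⟩
  have hc := center_h ⟨gg x, gg_mem_h hx⟩
  obtain ⟨c, hc', e'⟩ := gg_conj_in hSub (fun y hy => gg_mem_h hy) hx
  have h0 : gg 0 = zz := by
    rw [e0] at e'
    calc gg 0 = c⁻¹ * (c * gg 0 * c⁻¹) * c := by group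
      _ = c⁻¹ * (zz * c) := by rw [← e']; group
      _ = zz := by rw [← zz_comm hc', inv_mul_cancel_left]
  rw [← tr_pA, ← tr_zero] at h0
  exact absurd (tr_inj pA_bound (by omega) h0) (by decide)

/-- The transposition of the first letter in the quotient. -/
noncomputable def a22 : Q22 := q22 ⟨gg 0, gg_mem_h (by decide)⟩

theorem nb_conj {d : Spor.Fi23} (hd : d ∈ nbS trans zz) : ∃ h ∈ hSub, d = h * gg 0 * h⁻¹ := by
  obtain ⟨c, -, hc, rfl⟩ := mem_nb_iff.1 hd
  exact zz_fix_orb1 hc

theorem conj_mem_nb {d h : Spor.Fi23} (hd : d ∈ nbS trans zz) (hh : h ∈ hSub) : h * d * h⁻¹ ∈ nbS trans zz := by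
  obtain ⟨⟨g, e⟩, hne, hc⟩ := (show (∃ g, d = g * zz * g⁻¹) ∧ d ≠ zz ∧ Commute zz d from
    ⟨mem_trans.1 hd.1, hd.2.1, hd.2.2⟩)
  have hz : h * zz * h⁻¹ = zz := by rw [zz_comm hh, mul_inv_cancel_right]
  refine ⟨mem_trans.2 ⟨h * g, by rw [e]; group⟩, fun e0 => hne ?_, ?_⟩
  · exact mul_left_cancel (mul_right_cancel (e0.trans hz.symm))
  · have := hc.map (MulAut.conj h).toMonoidHom
    simp only [MulEquiv.coe_toMonoidHom, MulAut.conj_apply] at this
    rwa [hz] at this

theorem no_product {d : Spor.Fi23} (hd : d ∈ nbS trans zz) : d * zz ∉ nbS trans zz := by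
  intro h
  obtain ⟨k, hk, rfl⟩ := nb_conj hd
  have h1 : gg 0 * zz ∈ nbS trans zz := by
    have h2 := conj_mem_nb h (inv_mem hk)
    rwa [show k⁻¹ * (k * gg 0 * k⁻¹ * zz) * k⁻¹⁻¹ = gg 0 * (k⁻¹ * zz * k) by group,
      show k⁻¹ * zz * k = zz by rw [mul_assoc, ← zz_comm hk, inv_mul_cancel_left]] at h2
  obtain ⟨c, hc, horb, e⟩ := mem_nb_iff.1 h1
  have hfix : ∀ w ∈ kWords, wordPerm net w c = c := by
    intro w hw
    have h := List.all_eq_true.1 k_maps w hw
    simp only [Bool.and_eq_true] at h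
    rw [← act_word, ← commute_tr hc, e]
    refine Commute.mul_right ?_ (zz_comm (word_mem_h h.2))
    rw [← tr_pA, commute_tr pA_bound]
    exact act_maps h.1.2
  have hcA : c = pA := by
    have h2 := congrArg (fun X => X.testBit c) (Nat.eq_of_beq_eq_true k_fixed)
    change ((movedL kWords ||| (1 <<< pA : ℕ)) ||| orb1).testBit c = (movedL kWords ||| (1 <<< pA : ℕ)).testBit c at h2
    rw [Nat.testBit_or, horb, Bool.or_true, Nat.testBit_or, not_movedL kWords hfix, Bool.false_or,
      Nat.one_shiftLeft, Nat.testBit_two_pow, eq_comm, decide_eq_true_eq] at h2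
    exact h2.symm
  rw [hcA, tr_pA, left_eq_mul] at e
  have := orderOf_zz
  rw [e, orderOf_one] at this
  omega

theorem q22_inj {d e : ↥hSub} (hd : d ∈ nbH) (he : e ∈ nbH) (h : q22 d = q22 e) : d = e := by
  have hc : d⁻¹ * e ∈ Subgroup.center ↥hSub := QuotientGroup.eq.1 h
  rcases center_h _ hc with h1 | h1
  · exact inv_mul_eq_one.1 h1
  · exfalso
    refine no_product hd ?_
    have : (e : Spor.Fi23) = (d : Spor.Fi23) * zz := by
      have h2 : e = d * zH := by rw [← h1, mul_inv_cancel_left]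
      rw [h2]; rfl
    rw [← this]
    exact he

theorem commute_q22 {d e : ↥hSub} (hd : d ∈ nbH) (he : e ∈ nbH) :
    Commute (q22 d) (q22 e) ↔ Commute (d : Spor.Fi23) e := by
  constructor
  · intro h
    have h1 : q22 (d * e * d⁻¹) = q22 e := by
      rw [map_mul, map_mul, map_inv, h.eq, mul_inv_cancel_right]
    have h2 := q22_inj (conj_mem_nb he d.2) he h1
    exact congrArg Subtype.val (mul_inv_eq_iff_eq_mul.1 h2)
  · intro h
    exact (show Commute d e from Subtype.ext h.eq).map q22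

theorem D22_eq : D22 = conjugatesOf a22 := by
  ext x
  constructor
  · rintro ⟨d, hd, rfl⟩
    obtain ⟨k, hk, e⟩ := nb_conj hd
    refine isConj_iff.2 ⟨q22 ⟨k, hk⟩, ?_⟩
    rw [a22, ← map_inv, ← map_mul, ← map_mul]
    exact congrArg q22 (Subtype.ext e.symm)
  · intro hx
    obtain ⟨q, rfl⟩ := isConj_iff.1 hx
    obtain ⟨k, rfl⟩ := QuotientGroup.mk'_surjective _ q
    exact ⟨k * ⟨gg 0, gg_mem_h (by decide)⟩ * k⁻¹, conj_mem_nb (gg_mem_nb (x := 0) (by decide)) k.2, by
      rw [a22, map_mul, map_mul, map_inv]⟩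

theorem centralizer_a22 : Subgroup.centralizer {a22} = kSub.map q22 := by
  ext q
  obtain ⟨k, rfl⟩ := QuotientGroup.mk'_surjective _ q
  have key : q22 k ∈ Subgroup.centralizer {a22} ↔ k ∈ kSub := by
    rw [Subgroup.mem_centralizer_iff, mem_kSub]
    constructor
    · intro h
      have h1 : q22 (k * ⟨gg 0, gg_mem_h (by decide)⟩ * k⁻¹) = a22 := by
        rw [map_mul, map_mul, map_inv, ← a22, ← h a22 rfl, mul_inv_cancel_right]
      have h2 := congrArg Subtype.val
        (q22_inj (conj_mem_nb (gg_mem_nb (x := 0) (by decide)) k.2) (gg_mem_nb (x := 0) (by decide)) h1)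
      rw [← commute_tr pA_bound, tr_pA]
      exact mul_inv_eq_iff_eq_mul.1 h2
    · intro h y hy
      rw [Set.mem_singleton_iff.1 hy]
      rw [← commute_tr pA_bound, tr_pA] at h
      exact ((show Commute k ⟨gg 0, gg_mem_h (by decide)⟩ from Subtype.ext h.eq).map q22).eq.symm
  refine key.trans ⟨fun h => ⟨k, h, rfl⟩, fun ⟨k', hk', e⟩ => key.1 (e ▸ ?_)⟩
  have : (k' : Spor.Fi23) * gg 0 = gg 0 * k' := kSub_comm_a hk'
  exact Subgroup.mem_centralizer_iff.2 fun y hy => by
    rw [Set.mem_singleton_iff.1 hy]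
    exact ((show Commute k' ⟨gg 0, gg_mem_h (by decide)⟩ from Subtype.ext this).map q22).eq.symm

theorem primitive22 : IsPrimitiveUnderConj D22 := by
  rw [D22_eq]
  refine primitive_of_maximal (fun M hM => ?_) ⟨q22 ⟨gg 1, gg_mem_h (by decide)⟩, fun e => ?_⟩
  · rw [centralizer_a22] at hM ⊢
    rcases kSub_maximal (C := M.comap q22) (fun k hk => hM ⟨k, hk, rfl⟩) with h | h
    · left
      rw [← Subgroup.map_comap_eq_self_of_surjective (QuotientGroup.mk'_surjective _) M, h]
    · right
      rw [← Subgroup.map_comap_eq_self_of_surjective (QuotientGroup.mk'_surjective _) M, h,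
        Subgroup.map_top_of_surjective _ (QuotientGroup.mk'_surjective _)]
  · rw [a22, ← map_inv, ← map_mul, ← map_mul] at e
    have h2 := congrArg Subtype.val
      (q22_inj (conj_mem_nb (gg_mem_nb (x := 0) (by decide)) (gg_mem_h (show (1 : ℕ) ∈ hLetters by decide)))
        (gg_mem_nb (x := 0) (by decide)) e)
    have h3 : Commute (gg 1) (tr (lp 0)) := by
      rw [← gg_eq_tr (by omega)]; exact mul_inv_eq_iff_eq_mul.1 h2
    rw [commute_tr (lp_lt (by omega)), ← word_singleton, act_word] at h3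
    exact absurd h3 (by
      rw [wordPerm_maps acts.valid (show mapsOK net [1] (lp 0) 9592 = true by decide +kernel)]
      decide +kernel)

end CfsgLib.Recog.FiTypes
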