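import Cfsg.Agent.Lib.Recog.FiTypes.Check24b
import Cfsg.Agent.Lib.Recog.FiTypes.ListTools
import Cfsg.Agent.Lib.Classical.Quad.POmega

set_option autoImplicit false
set_option maxRecDepth 20000
set_option linter.style.haveILetI false

/-!
The products of pairs of reflections of norm one in dimension eight, acting on the 1080 reflections, form
PΩ⁺(8, 3) (owner: helper21).
-/

namespace CfsgLib.Recog.FiTypes.Orth24

open Cfsg CfsgLib.Classical.Quad CfsgLib.Recog.FiTypes
open QuadraticMap (polar polarBilin)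
open CfsgLib.ThreeTrans.CosetIndex (forallFrom forallFrom_elim)

local notation "Qh" => Geo.Q hypGeo

theorem nondeg : (polarBilin Qh).Nondegenerate := qPlus_nondeg 4

theorem listed : hypGeo.Listed 1 Data24.code Data24.idx 1080 where
  cn_val := Or.inl rfl
  norm := Check24.norm_ok
  cover c hc := forallFrom_single Check24.cover_ok (Nat.zero_le c) (by omega)

/-- The generators among the reflections. -/
def gen8 (j : Fin 8) : Fin 1080 := ⟨Data24.gens.getD j 0, Check24.small8 j j.2⟩

/-- Their permutations. -/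
noncomputable def rho (j : Fin 8) : Equiv.Perm (Fin 1080) :=
  tabPerm (forallFrom_elim Check24.inv8 (Nat.zero_le (j : ℕ)) (show (j : ℕ) < 0 + 8 by omega))

theorem frame : Frame listed.elt gen8 rho :=
  listed.frame (s := Data24.sig) (fun _ _ => rfl) fun j =>
    forallFrom_elim Check24.steps_ok (Nat.zero_le (j : ℕ)) (show (j : ℕ) < 0 + 8 by omega)

theorem reached : Reach gen8 rho := by
  refine reach_of_check (gens := Data24.gens.take 8) (s := Data24.sig) (by decide) Check24.reach8 (fun j => ?_)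
    fun _ _ => rfl
  show Data24.gens.getD j 0 = _
  exact ((show ∀ i < 8, (Data24.gens.take 8).getD i 0 = Data24.gens.getD i 0 by decide) j j.2).symm

/-- The action of the isometry group on the reflections. -/
noncomputable def psi : OQ Qh →* Equiv.Perm (Fin 1080) :=
  (conjHom listed.inj (H := ⊤) fun g _ i => listed.invariant g i).comp Subgroup.topEquiv.symm.toMonoidHom

theorem psi_spec (g : OQ Qh) (i : Fin 1080) : listed.elt (psi g i) = g * listed.elt i * g⁻¹ :=
  conjHom_spec listed.inj _ _ i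

theorem psi_gen (j : Fin 8) : psi (listed.elt (gen8 j)) = rho j :=
  conjHom_eq listed.inj _ fun i => frame.conj j i

/-- The reflection of the first generator. -/
noncomputable def r0 : OQ Qh := listed.elt (gen8 0)

theorem elt_sq (i : Fin 1080) : listed.elt i * listed.elt i = 1 := refl_mul_self _

theorem r0_inv : r0⁻¹ = r0 := inv_eq_of_mul_eq_one_right (elt_sq _)

/-- The subgroup generated by the products with the first one. -/
noncomputable def evenR : Subgroup (OQ Qh) :=
  Subgroup.closure (Set.range fun j : Fin 8 => r0 * listed.elt (gen8 j))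

theorem r0_conj {x : OQ Qh} (hx : x ∈ evenR) : r0 * x * r0 ∈ evenR := by
  induction hx using Subgroup.closure_induction with
  | mem y hy =>
    obtain ⟨j, rfl⟩ := hy
    have e : r0 * (r0 * listed.elt (gen8 j)) * r0 = (r0 * listed.elt (gen8 j))⁻¹ := by
      rw [mul_inv_rev, r0_inv, ← mul_assoc, show r0 * r0 = 1 from elt_sq _, one_mul,
        inv_eq_of_mul_eq_one_right (elt_sq (gen8 j))]
    rw [e]
    exact inv_mem (Subgroup.subset_closure ⟨j, rfl⟩)
  | one => rw [mul_one, show r0 * r0 = 1 from elt_sq _]; exact one_mem _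
  | mul a b _ _ ha hb =>
    have e : r0 * (a * b) * r0 = (r0 * a * r0) * (r0 * b * r0) := by
      calc r0 * (a * b) * r0 = r0 * a * (r0 * r0) * b * r0 := by
            rw [show r0 * r0 = 1 from elt_sq _]; group
        _ = _ := by group
    rw [e]
    exact mul_mem ha hb
  | inv a _ ha =>
    have e : r0 * a⁻¹ * r0 = (r0 * a * r0)⁻¹ := by rw [mul_inv_rev, mul_inv_rev, r0_inv, mul_assoc]
    rw [e]
    exact inv_mem ha

theorem r0_mul_elt (i : Fin 1080) : r0 * listed.elt i ∈ evenR := by
  refine reached (fun i => r0 * listed.elt i ∈ evenR) (fun j => Subgroup.subset_closure ⟨j, rfl⟩) (fun j i hi => ?_) i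
  set a := listed.elt (gen8 j)
  set b := listed.elt i
  have ha : r0 * a ∈ evenR := Subgroup.subset_closure ⟨j, rfl⟩
  rw [← frame.conj, inv_eq_of_mul_eq_one_right (elt_sq (gen8 j))]
  have e : r0 * (a * b * a) = (r0 * a) * (r0 * ((r0 * b) * (r0 * a)⁻¹) * r0)⁻¹⁻¹ := by
    rw [inv_inv, mul_inv_rev, r0_inv, show a⁻¹ = a from inv_eq_of_mul_eq_one_right (elt_sq (gen8 j))]
    calc r0 * (a * b * a) = r0 * a * (r0 * r0) * b * a * (r0 * r0) := by
          rw [show r0 * r0 = 1 from elt_sq _]; group
      _ = _ := by group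
  rw [e, inv_inv]
  exact mul_mem ha (r0_conj (mul_mem hi (inv_mem ha)))

theorem pair_mem (i i' : Fin 1080) : listed.elt i * listed.elt i' ∈ evenR := by
  have h := mul_mem (inv_mem (r0_mul_elt i)) (r0_mul_elt i')
  rwa [mul_inv_rev, r0_inv, inv_eq_of_mul_eq_one_right (elt_sq i), mul_assoc, ← mul_assoc r0,
    show r0 * r0 = 1 from elt_sq _, one_mul] at h

theorem evenR_normal : evenR.Normal := by
  refine ⟨fun x hx g => ?_⟩
  induction hx using Subgroup.closure_induction with
  | mem y hy =>
    obtain ⟨j, rfl⟩ := hy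
    obtain ⟨a, ha⟩ := listed.invariant g (gen8 0)
    obtain ⟨b, hb⟩ := listed.invariant g (gen8 j)
    have e : g * (r0 * listed.elt (gen8 j)) * g⁻¹ =
        (g * listed.elt (gen8 0) * g⁻¹) * (g * listed.elt (gen8 j) * g⁻¹) := by rw [r0]; group
    rw [e, ha, hb]
    exact pair_mem a b
  | one => rw [mul_one, mul_inv_cancel]; exact one_mem _
  | mul a b _ _ ha hb => rw [show g * (a * b) * g⁻¹ = (g * a * g⁻¹) * (g * b * g⁻¹) by group]; exact mul_mem ha hb
  | inv a _ ha => rw [show g * a⁻¹ * g⁻¹ = (g * a * g⁻¹)⁻¹ by group]; exact inv_mem ha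

theorem evenR_le : evenR ≤ commutator (OQ Qh) := by
  refine (Subgroup.closure_le _).2 ?_
  rintro _ ⟨j, rfl⟩
  have h0 : Qh (hypGeo.vec (Data24.code (gen8 0))) = ((1 : ℕ) : ZMod 3) := (listed.props (gen8 0).2).2.1
  have hj : Qh (hypGeo.vec (Data24.code (gen8 j))) = ((1 : ℕ) : ZMod 3) := (listed.props (gen8 j).2).2.1
  obtain ⟨g, hg⟩ := exists_conj_refl nondeg (v := hypGeo.vec (Data24.code (gen8 0)))
    (w := hypGeo.vec (Data24.code (gen8 j))) (by rw [h0]; decide) (by rw [hj]; decide) (by rw [h0, hj])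
  have e : listed.elt (gen8 j) = g * r0 * g⁻¹ := hg
  show r0 * listed.elt (gen8 j) ∈ commutator (OQ Qh)
  rw [e, show r0 * (g * r0 * g⁻¹) = r0 * g * r0⁻¹ * g⁻¹ by rw [r0_inv]; group]
  exact Subgroup.commutator_mem_commutator (Subgroup.mem_top r0) (Subgroup.mem_top g)

theorem rho_differ : rho 0 ≠ rho 1 := fun e => by
  have h : forallFrom (fun i => Nat.beq (Data24.sig 0 i) (Data24.sig 1 i)) 0 1080 = true := by
    have key : ∀ len ≤ 1080, forallFrom (fun i => Nat.beq (Data24.sig 0 i) (Data24.sig 1 i)) 0 len = true := by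
      intro len
      induction len with
      | zero => exact fun _ => rfl
      | succ k ih =>
        intro hk
        show (Nat.beq (Data24.sig 0 (0 + k)) (Data24.sig 1 (0 + k)) &&
          forallFrom (fun i => Nat.beq (Data24.sig 0 i) (Data24.sig 1 i)) 0 k) = true
        have hx : Data24.sig 0 k = Data24.sig 1 k :=
          congrArg Fin.val (congrArg (fun p : Equiv.Perm (Fin 1080) => p ⟨k, by omega⟩) e)
        rw [ih (by omega), Nat.zero_add, hx, Nat.beq_refl]
        rfl
    exact key 1080 le_rfl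
  exact Bool.noConfusion (h.symm.trans Check24.two_differ)

/-- The image of the generators. -/
noncomputable def evenRho : Subgroup (Equiv.Perm (Fin 1080)) :=
  Subgroup.closure (Set.range fun j : Fin 8 => rho 0 * rho j)

theorem psi_evenR : evenR.map psi = evenRho := by
  rw [evenR, MonoidHom.map_closure, evenRho]
  congr 1
  rw [← Set.range_comp]
  refine congrArg Set.range (funext fun j => ?_)
  show psi (r0 * listed.elt (gen8 j)) = _
  rw [map_mul, r0, psi_gen, psi_gen]

/-- **The products form PΩ⁺(8, 3).** -/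
theorem evenRho_equiv : Nonempty (↥evenRho ≃* POmega (ZMod 3) (quadFormPlus 4 (ZMod 3))) := by
  rw [← coe_qPlus]
  show Nonempty (↥evenRho ≃* POmega (ZMod 3) (⇑Qh))
  set Om := commutator (OQ Qh)
  have hn : 7 ≤ Module.finrank (ZMod 3) (Fin 4 ⊕ Fin 4 → ZMod 3) := by
    rw [Module.finrank_pi, Fintype.card_sum, Fintype.card_fin]; norm_num
  haveI hsimple := isSimpleGroup_Omega_quotient nondeg hn
  let f : ↥Om →* Equiv.Perm (Fin 1080) := psi.comp Om.subtype
  have hE : evenR.map psi ≤ f.range := by
    rintro _ ⟨x, hx, rfl⟩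
    exact ⟨⟨x, evenR_le hx⟩, rfl⟩
  have hne : f.ker ≠ ⊤ := fun h => rho_differ <| by
    have h1 : (rho 0 * rho 1) ∈ f.range := hE (psi_evenR ▸ Subgroup.subset_closure ⟨1, rfl⟩)
    obtain ⟨x, hx⟩ := h1
    have hxk : f x = 1 := MonoidHom.mem_ker.1 (h ▸ Subgroup.mem_top x)
    rw [hx, mul_eq_one_iff_eq_inv] at hxk
    rw [hxk]
    exact inv_eq_of_mul_eq_one_right (tabPerm_sq _)
  have hker : f.ker = Subgroup.center ↥Om := by
    have hle : Subgroup.center ↥Om ≤ f.ker := by
      intro x hx
      obtain ⟨c, hc, hv⟩ := (center_Omega_iff nondeg (by omega)).1 hx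
      rw [MonoidHom.mem_ker]
      refine Equiv.ext fun i => listed.inj ?_
      show listed.elt (psi x i) = listed.elt i
      rw [psi_spec, Geo.Listed.elt, refl_conj]
      refine Geo.refl_congr _ _ (show c ≠ 0 by rintro rfl; simp at hc) (hv _)
    have hm := QuotientGroup.mk'_surjective (Subgroup.center ↥Om)
    rcases (Subgroup.Normal.map (inferInstance : f.ker.Normal) _ hm).eq_bot_or_eq_top with h | h
    · refine le_antisymm (fun x hx => ?_) hle
      exact (QuotientGroup.eq_one_iff x).1 (Subgroup.mem_bot.1 (h ▸ Subgroup.mem_map_of_mem _ hx))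
    · exfalso
      refine hne ?_
      have h1 := congrArg (Subgroup.comap (QuotientGroup.mk' (Subgroup.center ↥Om))) h
      rwa [Subgroup.comap_top, Subgroup.comap_map_eq, QuotientGroup.ker_mk', sup_eq_left.2 hle] at h1
  have er : (↥Om ⧸ Subgroup.center ↥Om) ≃* ↥f.range :=
    (QuotientGroup.quotientMulEquivOfEq hker.symm).trans (QuotientGroup.quotientKerEquivRange f)
  haveI : Nontrivial (↥Om ⧸ Subgroup.center ↥Om) := hsimple.toNontrivial
  haveI : Nontrivial ↥f.range := er.symm.toEquiv.nontrivial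
  haveI : IsSimpleGroup ↥f.range := IsSimpleGroup.isSimpleGroup_of_surjective er.toMonoidHom er.surjective
  haveI hnorm : ((evenR.map psi).subgroupOf f.range).Normal := ⟨fun x hx g => by
    rw [Subgroup.mem_subgroupOf] at hx ⊢
    obtain ⟨y, hy, e⟩ := hx
    obtain ⟨z, hz⟩ := g.2
    refine ⟨(z : OQ Qh) * y * (z : OQ Qh)⁻¹, evenR_normal.conj_mem y hy z, ?_⟩
    rw [map_mul, map_mul, map_inv, e]
    show f z * _ * (f z)⁻¹ = _
    rw [hz]
    rfl⟩
  have heq : evenR.map psi = f.range := by
    rcases hnorm.eq_bot_or_eq_top with h | h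
    · exfalso
      rw [Subgroup.subgroupOf_eq_bot] at h
      have h' := h.eq_bot_of_le hE
      refine rho_differ ?_
      have h1 : rho 0 * rho 1 ∈ evenR.map psi := psi_evenR ▸ Subgroup.subset_closure ⟨1, rfl⟩
      rw [h', Subgroup.mem_bot, mul_eq_one_iff_eq_inv] at h1
      rw [h1]
      exact inv_eq_of_mul_eq_one_right (tabPerm_sq _)
    · exact le_antisymm hE (Subgroup.subgroupOf_eq_top.1 h)
  exact ⟨(MulEquiv.subgroupCongr (psi_evenR.symm.trans heq)).trans (er.symm.trans (pOmegaEquiv Qh).symm)⟩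

end CfsgLib.Recog.FiTypes.Orth24
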